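import Cfsg.Agent.AltNine.Cubic
import Mathlib.Algebra.BigOperators.Group.Finset.Basic
import Mathlib.Algebra.Order.BigOperators.Ring.Finset
import Mathlib.Data.List.Sort
import Mathlib.Tactic.FinCases
import Mathlib.Tactic.Positivity

/-!
# Backtracking over the columns of the exceptional characters

The inner products of the nine exceptional generalized characters force, up to signs and order,
one of finitely many systems of columns; the checker refutes each of them.
-/

set_option autoImplicit false
set_option maxRecDepth 100000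

namespace CfsgLib.AltNine

/-- The inner products of the generalized characters, without the trivial character. -/
def gramTab : List (List ℤ) :=
  [[2, 0, 1, -1, 1, 0, 0, 0, 0], [0, 2, -1, 0, 0, 0, 1, 0, 1], [1, -1, 3, -1, 1, 1, -1, 1, -1],
    [-1, 0, -1, 3, -1, 1, 1, 1, 1], [1, 0, 1, -1, 3, 0, 0, 1, 1], [0, 0, 1, 1, 0, 3, 0, 1, 1],
    [0, 1, -1, 1, 0, 0, 3, 1, 1], [0, 0, 1, 1, 1, 1, 1, 4, 1], [0, 1, -1, 1, 1, 1, 1, 1, 4]]

/-- An entry of the table of inner products. -/
def gram (i j : ℕ) : ℤ := (gramTab.getD i []).getD j 0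

/-- The first values of a function, listed backwards. -/
def vecRev : ℕ → (ℕ → ℤ) → List ℤ
  | 0, _ => []
  | i + 1, f => f i :: vecRev i f

/-- Entrywise squares added. -/
def addSq : List ℤ → List ℤ → List ℤ
  | t :: ts, c :: cs => (t + c * c) :: addSq ts cs
  | l, _ => l

/-- Each column with the norms of the columns from it on. -/
def withSuf (i : ℕ) : List (List ℤ) → List (List ℤ × List ℤ)
  | [] => []
  | c :: cs =>
    let t := withSuf i cs
    (c, addSq (match t with | [] => List.replicate i 0 | x :: _ => x.2) c) :: t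

/-- The Cauchy–Schwarz test. -/
def feasible (rem : ℤ) : List ℤ → List ℤ → Bool
  | q :: qs, t :: ts => decide (q * q ≤ rem * t) && feasible rem qs ts
  | _, _ => true

/-- Subtract a multiple. -/
def subMul (a : ℤ) : List ℤ → List ℤ → List ℤ
  | q :: qs, c :: cs => (q - a * c) :: subMul a qs cs
  | l, _ => l

/-- The possible entries of a new row on the given columns, with the norm left over. -/
def choices : List (List ℤ × List ℤ) → ℤ → List ℤ → List (List ℤ × ℤ)
  | [], rem, need => if need.all (· == 0) then [([], rem)] else []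
  | (c, s) :: rest, rem, need =>
    if feasible rem need s then
      ([0, 1, -1, 2, -2].filter fun a : ℤ => decide (a * a ≤ rem)).flatMap fun a =>
        (choices rest (rem - a * a) (subMul a need c)).map fun r => (a :: r.1, r.2)
    else []

/-- The descending lists of positive integers with a given sum of squares, at most four. -/
def parts : ℤ → List (List ℤ)
  | 0 => [[]]
  | 1 => [[1]]
  | 2 => [[1, 1]]
  | 3 => [[1, 1, 1]]
  | 4 => [[2], [1, 1, 1, 1]]
  | _ => []

/-- The columns after adding a row. -/
def extend (i : ℕ) (vals : List ℤ) (cols : List (List ℤ)) (pt : List ℤ) : List (List ℤ) :=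
  List.zipWith List.cons vals cols ++ pt.map fun a => a :: List.replicate i 0

/-- All systems of columns are refuted. -/
def refuted : ℕ → ℕ → List (List ℤ) → Bool
  | 0, _, cols => kill cols
  | k + 1, i, cols =>
    (choices (withSuf i cols) (gram i i) (vecRev i (gram i))).all fun r =>
      (parts r.2).all fun pt => refuted k (i + 1) (extend i r.1 cols pt)

theorem search_complete : refuted 9 0 [] = true := by decide +kernel

/-! ### Soundness -/

/-- The combination of columns with given coefficients, entrywise. -/
def comb (i : ℕ) : List ℤ → List (ℕ → ℤ) → ℕ → ℤ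
  | a :: as, c :: cs, j => a * c j + comb i as cs j
  | _, _, _ => 0

theorem subMul_vecRev (a : ℤ) (f g : ℕ → ℤ) :
    ∀ i, subMul a (vecRev i f) (vecRev i g) = vecRev i (fun j => f j - a * g j)
  | 0 => rfl
  | i + 1 => by simp [vecRev, subMul, subMul_vecRev a f g i]

theorem addSq_vecRev (f g : ℕ → ℤ) :
    ∀ i, addSq (vecRev i f) (vecRev i g) = vecRev i (fun j => f j + g j * g j)
  | 0 => rfl
  | i + 1 => by simp [vecRev, addSq, addSq_vecRev f g i]

theorem replicate_zero : ∀ i, List.replicate i (0 : ℤ) = vecRev i (fun _ => 0)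
  | 0 => rfl
  | i + 1 => by simp [vecRev, List.replicate_succ, replicate_zero i]

theorem vecRev_congr {f g : ℕ → ℤ} : ∀ {i : ℕ}, (∀ j < i, f j = g j) → vecRev i f = vecRev i g
  | 0, _ => rfl
  | i + 1, h => by simp [vecRev, h i (Nat.lt_succ_self i), vecRev_congr fun j hj => h j (hj.trans i.lt_succ_self)]

theorem vecRev_map (s : ℤ) (f : ℕ → ℤ) : ∀ i, (vecRev i f).map (s * ·) = vecRev i fun j => s * f j
  | 0 => rfl
  | i + 1 => by simp [vecRev, vecRev_map s f i]

theorem feasible_vecRev {rem : ℤ} {f g : ℕ → ℤ} :
    ∀ {i : ℕ}, (∀ j < i, f j * f j ≤ rem * g j) → feasible rem (vecRev i f) (vecRev i g) = true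
  | 0, _ => rfl
  | i + 1, h => by
    simp [vecRev, feasible, h i i.lt_succ_self, feasible_vecRev fun j hj => h j (hj.trans i.lt_succ_self)]

theorem all_zero_vecRev {f : ℕ → ℤ} :
    ∀ {i : ℕ}, (∀ j < i, f j = 0) → (vecRev i f).all (· == 0) = true
  | 0, _ => rfl
  | i + 1, h => by
    simp only [vecRev, List.all_cons, h i i.lt_succ_self,
      all_zero_vecRev fun j hj => h j (hj.trans i.lt_succ_self), beq_self_eq_true, Bool.and_true]

theorem withSuf_vecRev (i : ℕ) (c : ℕ → ℤ) (cs : List (ℕ → ℤ)) :
    ∃ s, withSuf i ((c :: cs).map (vecRev i)) = (vecRev i c, vecRev i s) :: withSuf i (cs.map (vecRev i)) ∧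
      ∀ j, s j = ((c :: cs).map fun e => e j * e j).sum := by
  induction cs generalizing c with
  | nil =>
    refine ⟨fun j => 0 + c j * c j, ?_, fun j => by simp⟩
    simp [withSuf, replicate_zero, addSq_vecRev]
  | cons d ds ih =>
    obtain ⟨s, hs, hsum⟩ := ih d
    refine ⟨fun j => s j + c j * c j, ?_, fun j => by simp [hsum]; ring⟩
    rw [List.map_cons, withSuf, hs]
    simp only [addSq_vecRev]

theorem cauchy_schwarz : ∀ (as : List ℤ) (cs : List (ℕ → ℤ)) (i j : ℕ), as.length = cs.length →
    comb i as cs j * comb i as cs j ≤ (as.map fun a => a * a).sum * (cs.map fun e => e j * e j).sum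
  | [], [], _, _, _ => by simp [comb]
  | a :: as, c :: cs, i, j, h => by
    have ih := cauchy_schwarz as cs i j (by simpa using h)
    simp only [comb, List.map_cons, List.sum_cons]
    set S := comb i as cs j
    set A := (as.map fun a => a * a).sum
    set B := (cs.map fun e => e j * e j).sum
    have hA : 0 ≤ A := List.sum_nonneg fun x hx => by
      obtain ⟨y, -, rfl⟩ := List.mem_map.1 hx; exact mul_self_nonneg y
    have hB : 0 ≤ B := List.sum_nonneg fun x hx => by
      obtain ⟨y, -, rfl⟩ := List.mem_map.1 hx; exact mul_self_nonneg _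
    have key : 2 * (a * c j * S) ≤ a * a * B + A * (c j * c j) := by
      have h0 : 0 ≤ a * a * B + A * (c j * c j) :=
        add_nonneg (mul_nonneg (mul_self_nonneg a) hB) (mul_nonneg hA (mul_self_nonneg _))
      by_contra hlt
      push Not at hlt
      have h1 : (a * a * B + A * (c j * c j)) * (a * a * B + A * (c j * c j)) <
          2 * (a * c j * S) * (2 * (a * c j * S)) := mul_self_lt_mul_self h0 hlt
      nlinarith [mul_self_nonneg (a * a * B - A * (c j * c j)),
        mul_le_mul_of_nonneg_left ih (mul_self_nonneg (a * c j))]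
    nlinarith

theorem mem_choices : ∀ (cs : List (ℕ → ℤ)) (as : List ℤ) (rem : ℤ) (i : ℕ) (f : ℕ → ℤ),
    as.length = cs.length → rem ≤ 4 → (as.map fun a => a * a).sum ≤ rem →
    (∀ j < i, f j = comb i as cs j) →
    (as, rem - (as.map fun a => a * a).sum) ∈ choices (withSuf i (cs.map (vecRev i))) rem (vecRev i f)
  | [], [], rem, i, f, _, _, _, hf => by
    simp [withSuf, choices, all_zero_vecRev (fun j hj => (hf j hj).trans rfl)]
  | c :: cs, a :: as, rem, i, f, hlen, h4, hle, hf => by
    obtain ⟨s, hs, hsum⟩ := withSuf_vecRev i c cs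
    have hnn : 0 ≤ (as.map fun a => a * a).sum := List.sum_nonneg fun x hx => by
      obtain ⟨y, -, rfl⟩ := List.mem_map.1 hx; exact mul_self_nonneg y
    simp only [List.map_cons, List.sum_cons] at hle
    rw [hs, choices, if_pos]
    · refine List.mem_flatMap.2 ⟨a, List.mem_filter.2 ⟨?_, by simpa using by linarith⟩, ?_⟩
      · have h1 : -2 ≤ a := by nlinarith
        have h2 : a ≤ 2 := by nlinarith
        interval_cases a <;> simp
      · refine List.mem_map.2 ⟨(as, rem - a * a - (as.map fun a => a * a).sum), ?_, by simp; ring⟩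
        rw [subMul_vecRev]
        refine mem_choices cs as (rem - a * a) i _ (by simpa using hlen) ?_ (by linarith) ?_
        · nlinarith [mul_self_nonneg a]
        · intro j hj
          rw [hf j hj, comb]; ring
    · refine feasible_vecRev fun j hj => ?_
      rw [hf j hj, hsum]
      have hcs := cauchy_schwarz (a :: as) (c :: cs) i j hlen
      refine hcs.trans (mul_le_mul_of_nonneg_right (by simpa using hle) ?_)
      exact List.sum_nonneg fun x hx => by
        obtain ⟨y, -, rfl⟩ := List.mem_map.1 hx; exact mul_self_nonneg _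

theorem mem_parts : ∀ (l : List ℤ), (∀ a ∈ l, 1 ≤ a) → l.Pairwise (fun a b => b ≤ a) →
    (l.map fun a => a * a).sum ≤ 4 → l ∈ parts (l.map fun a => a * a).sum := by
  intro l h1 hp h4
  have nn : ∀ m : List ℤ, 0 ≤ (m.map fun a => a * a).sum := fun m => List.sum_nonneg fun x hx => by
    obtain ⟨y, -, rfl⟩ := List.mem_map.1 hx; exact mul_self_nonneg y
  have sml : ∀ a : ℤ, 1 ≤ a → a * a ≤ 4 → a = 1 ∨ a = 2 := by
    intro a ha hb
    have : a ≤ 2 := by nlinarith
    omega
  rcases l with _ | ⟨a, l⟩
  · simp [parts]
  have a1 := h1 a (by simp)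
  simp only [List.map_cons, List.sum_cons] at h4 ⊢
  have := nn l
  rcases sml a a1 (by linarith) with rfl | rfl
  · have hl : ∀ b ∈ l, b = 1 := fun b hb =>
      le_antisymm ((List.pairwise_cons.1 hp).1 b hb) (h1 b (List.mem_cons_of_mem _ hb))
    have hrep : l = List.replicate l.length 1 := List.eq_replicate_iff.2 ⟨rfl, hl⟩
    have hsum : (l.map fun a => a * a).sum = (l.length : ℤ) := by
      conv_lhs => rw [hrep]
      simp
    rw [hsum] at h4 ⊢
    have : l.length ≤ 3 := by omega
    rw [hrep, List.length_replicate]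
    interval_cases l.length <;> simp [parts]
  · rcases l with _ | ⟨b, l⟩
    · simp [parts]
    · have b1 := h1 b (by simp)
      have := nn l
      simp only [List.map_cons, List.sum_cons] at h4
      nlinarith

section system

variable {ι : Type*} [Fintype ι]

/-- A list of indices with signs realising the columns. -/
structure Realizes (z : ι → ℕ → ℤ) (i : ℕ) (L : List (ι × ℤ)) (cols : List (List ℤ)) : Prop where
  nodup : (L.map Prod.fst).Nodup
  sign : ∀ e ∈ L, e.2 = 1 ∨ e.2 = -1
  cols_eq : cols = L.map fun e => vecRev i fun j => e.2 * z e.1 j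
  vanish : ∀ χ, χ ∉ L.map Prod.fst → ∀ j < i, z χ j = 0

theorem sum_list_eq {z : ι → ℕ → ℤ} [DecidableEq ι] {L : List (ι × ℤ)} (hnd : (L.map Prod.fst).Nodup)
    {M : Type*} [AddCommMonoid M] (F : ι → M) (h : ∀ χ, χ ∉ L.map Prod.fst → F χ = 0) :
    ∑ χ, F χ = (L.map fun e => F e.1).sum := by
  rw [← Finset.sum_subset (Finset.subset_univ (L.map Prod.fst).toFinset)
    (fun χ _ hχ => h χ (by simpa using hχ)), List.sum_toFinset _ hnd, List.map_map]
  rfl

theorem comb_signs (z : ι → ℕ → ℤ) (i k j : ℕ) : ∀ L : List (ι × ℤ),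
    comb i (L.map fun e => e.2 * z e.1 k) (L.map fun e j => e.2 * z e.1 j) j =
      (L.map fun e => e.2 * z e.1 k * (e.2 * z e.1 j)).sum
  | [] => rfl
  | e :: L => by simp [comb, comb_signs z i k j L]

/-- No system of integer vectors with these inner products passes the checker. -/
theorem exists_leaf {z : ι → ℕ → ℤ} [DecidableEq ι]
    (hg : ∀ i < 9, ∀ j < 9, ∑ χ, z χ i * z χ j = gram i j) :
    ∀ (k i : ℕ) (L : List (ι × ℤ)) (cols : List (List ℤ)), i + k = 9 → Realizes z i L cols →
      refuted k i cols = true → ∃ L' cols', Realizes z 9 L' cols' ∧ kill cols' = true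
  | 0, i, L, cols, hi, hR, hk => by
    obtain rfl : i = 9 := by omega
    exact ⟨L, cols, hR, hk⟩
  | k + 1, i, L, cols, hi, hR, hk => by
    have h9 : i < 9 := by omega
    have g4 : gram i i ≤ 4 := by interval_cases i <;> decide
    set as := L.map fun e => e.2 * z e.1 i with has
    set cs := L.map fun e j => e.2 * z e.1 j with hcs
    have sq : ∀ e ∈ L, e.2 * z e.1 i * (e.2 * z e.1 i) = z e.1 i * z e.1 i := by
      intro e he
      rcases hR.sign e he with h | h <;> rw [h] <;> ring
    -- the norm on the old columns and outside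
    set rest := (Finset.univ : Finset ι).filter (fun χ => χ ∉ L.map Prod.fst ∧ z χ i ≠ 0) with hrest
    have hsplit : (as.map fun a => a * a).sum + ∑ χ ∈ rest, z χ i * z χ i = gram i i := by
      rw [← hg i h9 i h9, ← Finset.sum_filter_add_sum_filter_not (Finset.univ : Finset ι)
        (fun χ => χ ∈ L.map Prod.fst)]
      congr 1
      · rw [has, List.map_map]
        rw [show (Finset.univ.filter fun χ => χ ∈ L.map Prod.fst) = (L.map Prod.fst).toFinset by
          ext; simp, List.sum_toFinset _ hR.nodup, List.map_map]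
        exact congrArg List.sum (List.map_congr_left fun e he => sq e he)
      · apply Finset.sum_subset
        · intro χ hχ; simp only [hrest, Finset.mem_filter] at hχ ⊢; exact ⟨hχ.1, hχ.2.1⟩
        · intro χ hχ hn
          simp only [hrest, Finset.mem_filter, Finset.mem_univ, true_and] at hχ hn
          have : z χ i = 0 := by tauto
          simp [this]
    have hrest0 : 0 ≤ ∑ χ ∈ rest, z χ i * z χ i :=
      Finset.sum_nonneg fun χ _ => mul_self_nonneg _
    have hmem : (as, gram i i - (as.map fun a => a * a).sum) ∈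
        choices (withSuf i cols) (gram i i) (vecRev i (gram i)) := by
      have hc : cols = cs.map (vecRev i) := by
        rw [hR.cols_eq, hcs, List.map_map]; rfl
      rw [hc]
      refine mem_choices cs as _ i _ (by simp [has, hcs]) g4 (by linarith) fun j hj => ?_
      rw [has, hcs, comb_signs, ← hg i h9 j (hj.trans h9),
        sum_list_eq (z := z) hR.nodup _ (fun χ hχ => by rw [hR.vanish χ hχ j hj, mul_zero])]
      refine congrArg List.sum (List.map_congr_left fun e he => ?_)
      rcases hR.sign e he with h | h <;> rw [h] <;> ring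
    -- the new columns, by decreasing absolute value
    let le' : ι → ι → Bool := fun a b => decide (|z b i| ≤ |z a i|)
    let N := rest.toList.mergeSort le'
    have hperm : N.Perm rest.toList := List.mergeSort_perm _ _
    have hNmem : ∀ χ, χ ∈ N ↔ χ ∈ rest := fun χ => by rw [hperm.mem_iff, Finset.mem_toList]
    have hsorted : N.Pairwise fun a b => le' a b = true :=
      List.pairwise_mergeSort (le := le')
        (fun a b c h1 h2 => by simp only [le', decide_eq_true_eq] at *; exact h2.trans h1)
        (fun a b => by simp only [le', Bool.or_eq_true, decide_eq_true_eq]; exact le_total _ _) _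
    let sg : ι → ℤ := fun χ => if 0 < z χ i then 1 else -1
    have habs : ∀ χ, sg χ * z χ i = |z χ i| := fun χ => by
      simp only [sg]; split_ifs with h
      · rw [abs_of_pos h, one_mul]
      · rw [abs_of_nonpos (not_lt.1 h)]; ring
    set pt := N.map fun χ => |z χ i| with hpt
    have hptsum : (pt.map fun a => a * a).sum = gram i i - (as.map fun a => a * a).sum := by
      rw [hpt, List.map_map, List.Perm.sum_eq (hperm.map _), Finset.sum_map_toList]
      simp only [Function.comp_def, abs_mul_abs_self]
      linarith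
    have hptmem : pt ∈ parts (gram i i - (as.map fun a => a * a).sum) := by
      rw [← hptsum]
      refine mem_parts _ ?_ ?_ ?_
      · intro a ha
        obtain ⟨χ, hχ, rfl⟩ := List.mem_map.1 ha
        rw [hNmem, hrest, Finset.mem_filter] at hχ
        exact Int.one_le_abs hχ.2.2
      · rw [hpt, List.pairwise_map]
        exact hsorted.imp fun h => by simpa [le'] using h
      · have hnn : 0 ≤ (as.map fun a => a * a).sum := List.sum_nonneg fun x hx => by
          obtain ⟨y, -, rfl⟩ := List.mem_map.1 hx; exact mul_self_nonneg y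
        linarith
    rw [refuted, List.all_eq_true] at hk
    have hk' := List.all_eq_true.1 (hk _ hmem) pt hptmem
    refine exists_leaf hg k (i + 1) (L ++ N.map fun χ => (χ, sg χ)) _ (by omega) ⟨?_, ?_, ?_, ?_⟩ hk'
    · rw [List.map_append, List.map_map, List.nodup_append]
      refine ⟨hR.nodup, ?_, ?_⟩
      · rw [show (Prod.fst ∘ fun χ : ι => (χ, sg χ)) = id from rfl, List.map_id]
        exact hperm.nodup_iff.2 rest.nodup_toList
      · intro a ha b hb
        obtain ⟨χ, hχ, rfl⟩ := List.mem_map.1 hb
        rw [hNmem, hrest, Finset.mem_filter] at hχ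
        rintro rfl
        exact hχ.2.1 ha
    · intro e he
      rcases List.mem_append.1 he with he | he
      · exact hR.sign e he
      · obtain ⟨χ, -, rfl⟩ := List.mem_map.1 he
        simp only [sg]; split_ifs <;> simp
    · rw [extend, List.map_append]
      congr 1
      · rw [has, hR.cols_eq, List.zipWith_map, List.zipWith_self]
        rfl
      · rw [hpt, List.map_map, List.map_map]
        refine List.map_congr_left fun χ hχ => ?_
        rw [hNmem, hrest, Finset.mem_filter] at hχ
        simp only [Function.comp_apply, vecRev, habs]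
        rw [replicate_zero, vecRev_congr fun j hj => ?_]
        simp [hR.vanish χ hχ.2.1 j hj]
    · intro χ hχ j hj
      simp only [List.map_append, List.mem_append, List.map_map, not_or] at hχ
      rcases Nat.lt_succ_iff_lt_or_eq.1 hj with hj | rfl
      · exact hR.vanish χ hχ.1 j hj
      · by_contra h0
        refine hχ.2 (List.mem_map.2 ⟨χ, ?_, rfl⟩)
        rw [hNmem, hrest]
        simp only [Finset.mem_filter, Finset.mem_univ, true_and]
        exact ⟨hχ.1, h0⟩

/-- The value of a character at a class of the core. -/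
def xz (z : ι → ℕ → ℤ) (p : Fin 3) (χ : ι) : ℤ := xv p (vecRev 9 (z χ))

/-- Characters with these properties do not exist. -/
theorem no_system {z : ι → ℕ → ℤ} {d : ι → ℤ} {g : ℤ}
    (hg : ∀ i < 9, ∀ j < 9, ∑ χ, z χ i * z χ j = gram i j)
    (hlarge : 18144 ≤ g) (hres : g % 17496 = 648) (hd : ∀ χ, d χ ≠ 0)
    (hcong : ∀ χ, (d χ + 6 * xz z 0 χ + 12 * xz z 1 χ + 8 * xz z 2 χ) % 27 = 0)
    (hsq : ∑ χ, d χ * d χ < g)
    (hcubic : ∀ k : Fin 7,
      ∑ χ, (monoAt (fun p => xz z p χ) k : ℚ) / d χ + 1 = (rhsAt k : ℚ) / g)
    (hlin : ∀ p : Fin 3, ∑ χ, d χ * xz z p χ + 1 = 0)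
    (hent : ∑ χ, d χ * z χ 1 = 0) : False := by
  classical
  obtain ⟨L, cols, hR, hkill⟩ := exists_leaf hg 9 0 [] [] rfl
    ⟨List.nodup_nil, fun _ h => absurd h (by simp), rfl, fun _ _ j hj => absurd hj (by omega)⟩
    search_complete
  set P : List (List ℤ × ℤ) := L.map fun e => (vecRev 9 (fun j => e.2 * z e.1 j), e.2 * d e.1)
    with hP
  have hx : ∀ e ∈ L, ∀ p, xv p (vecRev 9 fun j => e.2 * z e.1 j) = e.2 * xz z p e.1 := by
    intro e _ p
    rw [xz, xv, xv, ← vecRev_map, dot_map_mul]
  have hout : ∀ χ, χ ∉ L.map Prod.fst → ∀ p, xz z p χ = 0 := by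
    intro χ hχ p
    rw [xz, vecRev_congr (g := fun _ => 0) fun j hj => hR.vanish χ hχ j hj]
    fin_cases p <;> rfl
  have hout' : ∀ χ, χ ∉ L.map Prod.fst → ∀ k, monoAt (fun p => xz z p χ) k = 0 := by
    intro χ hχ k
    simp [monoAt, hout χ hχ]
  have hcols : cols = P.map Prod.fst := by rw [hR.cols_eq, hP, List.map_map]; rfl
  have hsys : Sys g P := by
    refine ⟨hlarge, hres, ?_, ?_, ?_, ?_, ?_, ?_⟩
    · intro e he
      obtain ⟨x, hx', rfl⟩ := List.mem_map.1 he
      rcases hR.sign x hx' with h | h <;> simp [h, hd]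
    · intro e he
      obtain ⟨x, hx', rfl⟩ := List.mem_map.1 he
      have := hcong x.1
      simp only [res, hx x hx']
      rcases hR.sign x hx' with h | h <;> rw [h] <;> omega
    · refine lt_of_le_of_lt ?_ hsq
      rw [hP, List.map_map]
      have e1 : (L.map ((fun e : List ℤ × ℤ => e.2 * e.2) ∘ fun e : ι × ℤ =>
          (vecRev 9 (fun j => e.2 * z e.1 j), e.2 * d e.1))).sum = (L.map fun e => d e.1 * d e.1).sum := by
        refine congrArg List.sum (List.map_congr_left fun e he => ?_)
        rcases hR.sign e he with h | h <;> simp [h]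
      rw [e1, show (fun e : ι × ℤ => d e.1 * d e.1) = (fun χ => d χ * d χ) ∘ Prod.fst from rfl,
        ← List.map_map, ← List.sum_toFinset _ hR.nodup]
      exact Finset.sum_le_sum_of_subset_of_nonneg (Finset.subset_univ _)
        fun χ _ _ => mul_self_nonneg _
    · intro f hf
      have hfl : f.length = 7 := by fin_cases hf <;> rfl
      obtain ⟨f0, f1', f2', f3', f4', f5', f6', rfl⟩ : ∃ a b c d' e k l, f = [a, b, c, d', e, k, l] := by
        match f, hfl with
        | [a, b, c, d', e, k, l], _ => exact ⟨a, b, c, d', e, k, l, rfl⟩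
      have key : ∀ k, ((L.map fun e => (monoAt (fun p => xv p (vecRev 9 fun j => e.2 * z e.1 j)) k : ℚ) /
          ((e.2 * d e.1 : ℤ) : ℚ)).sum) + 1 = (rhsAt k : ℚ) / g := by
        intro k
        rw [← hcubic k, sum_list_eq (z := z) hR.nodup _ (fun χ hχ => by simp [hout' χ hχ k])]
        congr 1
        refine congrArg List.sum (List.map_congr_left fun e he => ?_)
        simp only [monoAt, hx e he]
        rcases hR.sign e he with h | h <;> simp [h, div_neg, neg_div]
      have k0 := key 0
      have k1 := key 1
      have k2 := key 2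
      have k3 := key 3
      have k4 := key 4
      have k5 := key 5
      have k6 := key 6
      simp only [hP, List.map_map, Function.comp_def, fval, fAt, dot, Int.cast_add, Int.cast_mul,
        add_div, List.sum_map_add, Int.cast_zero, add_zero, mul_div_assoc, List.sum_map_mul_left,
        rhsC]
      have hone : ∀ k, monoAt (fun _ => (1 : ℤ)) k = 1 := fun k => by simp [monoAt]
      simp only [hone, rhsAt, rhsC, List.getD_cons_zero, List.getD_cons_succ, Fin.val_zero,
        Fin.val_one] at *
      norm_num at *
      linear_combination (f0 : ℚ) * k0 + (f1' : ℚ) * k1 + (f2' : ℚ) * k2 + (f3' : ℚ) * k3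
        + (f4' : ℚ) * k4 + (f5' : ℚ) * k5 + (f6' : ℚ) * k6
    · have h0 := hlin 0
      have h1 := hlin 1
      have h2 := hlin 2
      have : ∑ χ, d χ * (2 * xz z 1 χ - xz z 0 χ - xz z 2 χ) = 0 := by
        simp only [mul_sub, Finset.sum_sub_distrib]
        rw [show (∑ χ, d χ * (2 * xz z 1 χ)) = 2 * ∑ χ, d χ * xz z 1 χ by
          rw [Finset.mul_sum]; exact Finset.sum_congr rfl fun χ _ => by ring]
        linarith
      rw [← this, sum_list_eq (z := z) hR.nodup _ (fun χ hχ => by simp [hout χ hχ]), hP, List.map_map]
      refine congrArg List.sum (List.map_congr_left fun e he => ?_)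
      simp only [Function.comp_apply, psi, hx e he]
      rcases hR.sign e he with h | h <;> rw [h] <;> ring
    · rw [← hent, sum_list_eq (z := z) hR.nodup _
        (fun χ hχ => by rw [hR.vanish χ hχ 1 (by norm_num), mul_zero]), hP, List.map_map]
      refine congrArg List.sum (List.map_congr_left fun e he => ?_)
      simp only [Function.comp_apply, entry1, vecRev, List.getD_cons_zero, List.getD_cons_succ]
      rcases hR.sign e he with h | h <;> rw [h] <;> ring
  have := hsys.not_kill
  rw [← hcols, hkill] at this
  exact Bool.noConfusion this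

end system

end CfsgLib.AltNine
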