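import Cfsg.Agent.AltNine.Monomial
import Cfsg.Agent.AltNine.Search
import Cfsg.Agent.Char.Inner

/-!
# Inner products of the exceptional generalized characters of the model
-/

set_option autoImplicit false
set_option maxRecDepth 100000

namespace CfsgLib.AltNine

open scoped ComplexConjugate

/-- The class of an element of the core attached to an index. -/
def coreCls : Fin 3 → Fin 14
  | 0 => 3
  | 1 => 4
  | 2 => 5

/-- The coefficient of a generalized character in the delta function of a class of the core. -/
def coefAt (p : Fin 3) (b : Fin 9) : ℤ := (coefX p).getD (8 - b) 0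

theorem delta_table : ∀ p : Fin 3, ∀ c : Fin 14,
    Z12.sumL ((List.finRange 9).map fun b => Z12.smul (coefAt p b) (alphaVal b c)) =
      Z12.ofInt (if c = coreCls p then (cen c : ℤ) else 0) := by decide +kernel

theorem sum_coef_alpha (p : Fin 3) (x : K) :
    ∑ b : Fin 9, (coefAt p b : ℂ) * alpha b x =
      if cls x = coreCls p then (cen (cls x) : ℂ) else 0 := by
  simp only [alpha_eq, ← Z12.toC_smul, Z12.sum_toC, delta_table, Z12.toC_ofInt]
  split_ifs <;> simp

/-- Weighted sum over the classes. -/
def classSum (f : Fin 14 → Z12) : Z12 :=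
  Z12.sumL ((List.finRange 14).map fun c => Z12.smul (size c) (f c))

theorem toC_classSum (f : Fin 14 → Z12) :
    Z12.toC (classSum f) = ∑ x : K, Z12.toC (f (cls x)) := by
  rw [sum_eq_sum_cls (fun c => Z12.toC (f c)), classSum, ← Z12.sum_toC]
  exact Finset.sum_congr rfl fun c _ => by rw [Z12.toC_smul, Int.cast_natCast]

theorem gram_table : ∀ i j : Fin 9,
    classSum (fun c => Z12.mul (alphaVal i c) (Z12.star' (alphaVal j c))) =
      Z12.ofInt (648 * (gram i j + cTriv i * cTriv j)) := by decide +kernel

theorem sum_alpha_mul_conj (i j : Fin 9) :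
    ∑ x : K, alpha i x * conj (alpha j x) = 648 * ((gram i j + cTriv i * cTriv j : ℤ) : ℂ) := by
  have h := congrArg Z12.toC (gram_table i j)
  rw [toC_classSum, Z12.toC_ofInt] at h
  simp only [Z12.toC_mul, Z12.toC_star, ← alpha_eq] at h
  rw [h]
  push_cast
  rfl

theorem triv_table : ∀ b : Fin 9,
    classSum (fun c => Z12.star' (alphaVal b c)) = Z12.ofInt (648 * cTriv b) := by decide +kernel

theorem sum_conj_alpha (b : Fin 9) : ∑ x : K, conj (alpha b x) = 648 * (cTriv b : ℂ) := by
  have h := congrArg Z12.toC (triv_table b)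
  rw [toC_classSum, Z12.toC_ofInt] at h
  simp only [Z12.toC_star, ← alpha_eq] at h
  rw [h]
  push_cast
  rfl

end CfsgLib.AltNine
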