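import Cfsg.Agent.AltNine.Local
import Cfsg.Agent.AltNine.Values
import Cfsg.Agent.Char.ClassProducts

/-!
# The exceptional characters of a group with this subgroup

The multiplicities of the irreducible characters in the nine exceptional generalized characters
satisfy all the hypotheses of `no_system`, so the subgroup is everything.
-/

set_option autoImplicit false
set_option maxRecDepth 100000
set_option linter.style.haveILetI false
set_option linter.unusedSectionVars false

namespace CfsgLib.AltNine

open scoped ComplexConjugate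
open CfsgLib.Char (irrFinset)

theorem coreCls_mem : ∀ p : Fin 3, coreCls p ∈ ([3, 4, 5] : List (Fin 14)) := by decide

theorem inD_coreCls : ∀ p : Fin 3, inD (coreCls p) = true := by decide

theorem coreCls_ne_zero : ∀ p : Fin 3, coreCls p ≠ 0 := by decide

theorem mono_ne : ∀ k : Fin 7, ¬(coreCls (mono k).1 = coreCls (mono k).2.1 ∧
    coreCls (mono k).2.1 = coreCls (mono k).2.2) := by decide

theorem rhs_table : ∀ k : Fin 7, rhsAt k =
    (coreCount (coreCls (mono k).1) (coreCls (mono k).2.1) (coreCls (mono k).2.2) : ℤ) *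
      (cen (coreCls (mono k).1) : ℤ) * (cen (coreCls (mono k).2.1) : ℤ) := by decide +kernel

theorem cen_pos : ∀ c, 0 < cen c := by decide +kernel

variable {G : Type*} [Group G] [Fintype G] {φ : K →* G}

theorem xv_vecRev (p : Fin 3) (f : ℕ → ℤ) :
    xv p (vecRev 9 f) = ∑ b : Fin 9, coefAt p b * f b := by
  fin_cases p <;> simp [xv, dot, coefX, coefAt, vecRev, Fin.sum_univ_succ] <;> ring

theorem classInner_K (f₁ f₂ : K → ℂ) :
    Cfsg.classInner f₁ f₂ = (648 : ℂ)⁻¹ * ∑ x, f₁ x * conj (f₂ x) := by
  rw [Cfsg.classInner, Nat.card_eq_fintype_card, card_K]; norm_num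

theorem exists_mult {χ : G → ℂ} (hχ : Cfsg.IsIrrCharacter G χ) (b : Fin 9) :
    ∃ n : ℤ, Cfsg.classInner (fun x => χ (φ x)) (alpha b) = n :=
  CfsgLib.Char.IsGeneralized.exists_classInner_eq_int
    (CfsgLib.Char.IsGeneralized.comp (CfsgLib.Char.IsIrrCharacter.isGeneralized hχ) φ)
    (isGeneralized_alpha b)

theorem apply_rep {χ : G → ℂ} (hχ : Cfsg.IsIrrCharacter G χ) (x : K) :
    χ (φ x) = χ (φ (rep (cls x))) :=
  CfsgLib.Char.IsClassFunction.apply_eq_of_isConj
    (CfsgLib.Char.IsIrrCharacter.isClassFunction hχ) (φ.map_isConj (isConj_rep x))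

theorem range_eq_top (h : Hyp φ) : φ.range = ⊤ := by
  classical
  refine h.eq_top_or_large.resolve_right fun ⟨hlarge, hres⟩ => ?_
  have h1 : Cfsg.IsIrrCharacter G (fun _ => (1 : ℂ)) := CfsgLib.Char.isIrrCharacter_one
  let one : G → ℂ := fun _ => 1
  have hone : one ∈ irrFinset G := CfsgLib.Char.mem_irrFinset.2 h1
  let I := {χ : G → ℂ // χ ∈ (irrFinset G).erase one}
  have hirr : ∀ χ : I, Cfsg.IsIrrCharacter G χ.1 := fun χ =>
    CfsgLib.Char.mem_irrFinset.1 (Finset.mem_of_mem_erase χ.2)
  have split : ∀ F : (G → ℂ) → ℂ, ∑ χ ∈ irrFinset G, F χ = F one + ∑ χ : I, F χ.1 := by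
    intro F
    rw [← Finset.add_sum_erase _ F hone, ← Finset.sum_coe_sort ((irrFinset G).erase one) F]
  -- degrees
  have hdex : ∀ χ : I, ∃ n : ℕ, 0 < n ∧ χ.1 1 = n := fun χ =>
    CfsgLib.Char.IsIrrCharacter.exists_degree (hirr χ)
  choose dn hdpos hdn using hdex
  let d : I → ℤ := fun χ => (dn χ : ℤ)
  -- multiplicities
  choose zb hzb using fun χ : I => fun b : Fin 9 => exists_mult (φ := φ) (hirr χ) b
  let z : I → ℕ → ℤ := fun χ j => if hj : j < 9 then zb χ ⟨j, hj⟩ else 0
  have hz : ∀ χ : I, ∀ b : Fin 9, (z χ b : ℂ) = Cfsg.classInner (fun x => χ.1 (φ x)) (alpha b) := by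
    intro χ b
    simp only [z, b.2, dif_pos]
    exact (hzb χ b).symm
  have hz1 : ∀ b : Fin 9, Cfsg.classInner (fun x => one (φ x)) (alpha b) = (cTriv b : ℂ) := by
    intro b
    rw [classInner_K]
    simp only [one, one_mul, sum_conj_alpha]
    ring
  have hcard : Nat.card G ≠ 0 := Nat.card_pos.ne'
  -- values at the core classes
  have hx : ∀ χ : I, ∀ p : Fin 3, (xz z p χ : ℂ) = χ.1 (φ (rep (coreCls p))) := by
    intro χ p
    rw [xz, xv_vecRev]
    push_cast
    simp only [hz, classInner_K, Finset.mul_sum]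
    rw [Finset.sum_comm]
    have : ∀ x : K, ∑ b : Fin 9, (coefAt p b : ℂ) * ((648 : ℂ)⁻¹ * (χ.1 (φ x) * conj (alpha b x))) =
        (648 : ℂ)⁻¹ * χ.1 (φ (rep (cls x))) * (if cls x = coreCls p then (cen (cls x) : ℂ) else 0) := by
      intro x
      have e := congrArg (starRingEnd ℂ) (sum_coef_alpha p x)
      simp only [map_sum, map_mul, map_intCast, apply_ite (starRingEnd ℂ), map_natCast, map_zero] at e
      rw [← e, Finset.mul_sum, ← apply_rep (hirr χ) x]
      exact Finset.sum_congr rfl fun b _ => by ring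
    rw [Finset.sum_congr rfl fun x _ => this x,
      sum_eq_sum_cls (fun c => (648 : ℂ)⁻¹ * χ.1 (φ (rep c)) * if c = coreCls p then (cen c : ℂ) else 0)]
    simp only [mul_ite, mul_zero, Finset.sum_ite_eq', Finset.mem_univ, if_true]
    have := congrArg (Nat.cast (R := ℂ)) (size_mul_cen (coreCls p))
    push_cast at this
    calc (size (coreCls p) : ℂ) * ((648 : ℂ)⁻¹ * χ.1 (φ (rep (coreCls p))) * cen (coreCls p))
        = (648 : ℂ)⁻¹ * ((size (coreCls p) : ℂ) * cen (coreCls p)) * χ.1 (φ (rep (coreCls p))) := by ring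
      _ = _ := by rw [this, inv_mul_cancel₀ (by norm_num), one_mul]
  refine no_system (ι := I) (z := z) (d := d) (g := (Nat.card G : ℤ)) ?_ (by exact_mod_cast hlarge)
    (by exact_mod_cast hres) (fun χ => by have := hdpos χ; simp only [d]; omega) ?_ ?_ ?_ ?_ ?_
  · -- inner products
    have main : ∀ i j : Fin 9, ∑ χ : I, (z χ i : ℂ) * (z χ j : ℂ) = (gram j i : ℂ) := by
      intro i j
      have hreal : ∀ χ : I, (z χ j : ℂ) = conj (Cfsg.classInner (fun x => χ.1 (φ x)) (alpha j)) :=
        fun χ => by rw [← hz, map_intCast]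
      have htot : ∑ χ ∈ irrFinset G, Cfsg.classInner (fun x => χ (φ x)) (alpha i) *
          conj (Cfsg.classInner (fun x => χ (φ x)) (alpha j)) =
          ((gram j i + cTriv j * cTriv i : ℤ) : ℂ) := by
        simp only [classInner_K, map_mul, map_sum, map_inv₀, map_ofNat, Complex.conj_conj]
        have e1 : ∀ χ : G → ℂ,
            (648 : ℂ)⁻¹ * (∑ x, χ (φ x) * conj (alpha i x)) *
              ((648 : ℂ)⁻¹ * ∑ y, conj (χ (φ y)) * alpha j y) =
            ∑ x, ∑ y, (648 : ℂ)⁻¹ * (648 : ℂ)⁻¹ * conj (alpha i x) * alpha j y *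
              (χ (φ x) * conj (χ (φ y))) := by
          intro χ
          rw [mul_mul_mul_comm, Finset.sum_mul_sum, Finset.mul_sum]
          refine Finset.sum_congr rfl fun x _ => ?_
          rw [Finset.mul_sum]
          exact Finset.sum_congr rfl fun y _ => by ring
        rw [Finset.sum_congr rfl fun χ _ => e1 χ, Finset.sum_comm]
        have e2 : ∀ x : K, ∑ χ ∈ irrFinset G, ∑ y, (648 : ℂ)⁻¹ * (648 : ℂ)⁻¹ * conj (alpha i x) *
            alpha j y * (χ (φ x) * conj (χ (φ y))) = (648 : ℂ)⁻¹ * (alpha j x * conj (alpha i x)) := by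
          intro x
          rw [Finset.sum_comm]
          simp only [← Finset.mul_sum, CfsgLib.Char.sum_irr_mul_conj]
          by_cases hD : inD (cls x) = true
          · have e3 : ∀ y : K, (648 : ℂ)⁻¹ * (648 : ℂ)⁻¹ * conj (alpha i x) * alpha j y *
                (if IsConj (φ x) (φ y) then
                  (Nat.card (Subgroup.centralizer ({φ x} : Set G)) : ℂ) else 0) =
                (fun c => if cls x = c then (648 : ℂ)⁻¹ * (648 : ℂ)⁻¹ * conj (alpha i x) * alpha j x *
                  (cen (cls x) : ℂ) else 0) (cls y) := by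
              intro y
              simp only [h.isConj_iff_of_inD hD, h.card_centralizer_eq hD]
              split_ifs with e
              · rw [alpha_eq j y, alpha_eq j x, e]
              · ring
            rw [Finset.sum_congr rfl fun y _ => e3 y, sum_eq_sum_cls (fun c => if cls x = c then
              (648 : ℂ)⁻¹ * (648 : ℂ)⁻¹ * conj (alpha i x) * alpha j x * (cen (cls x) : ℂ) else 0)]
            simp only [mul_ite, mul_zero, Finset.sum_ite_eq, Finset.mem_univ, if_true]
            have := congrArg (Nat.cast (R := ℂ)) (size_mul_cen (cls x))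
            push_cast at this
            calc _ = (648 : ℂ)⁻¹ * ((648 : ℂ)⁻¹ * ((size (cls x) : ℂ) * cen (cls x))) *
                  (alpha j x * conj (alpha i x)) := by ring
              _ = _ := by rw [this, inv_mul_cancel₀ (by norm_num), mul_one]
          · have e0 := alpha_outside (b := i) (by simpa using hD)
            simp [e0]
        rw [Finset.sum_congr rfl fun x _ => e2 x, ← Finset.mul_sum, sum_alpha_mul_conj,
          ← mul_assoc, inv_mul_cancel₀ (by norm_num), one_mul]
      rw [split, hz1, hz1] at htot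
      simp only [← hz, map_intCast] at htot
      push_cast at htot
      linear_combination htot
    intro i hi j hj
    have := main ⟨j, hj⟩ ⟨i, hi⟩
    have e : ∀ χ : I, z χ i * z χ j = z χ j * z χ i := fun χ => mul_comm _ _
    rw [Finset.sum_congr rfl fun χ _ => e χ]
    exact_mod_cast this
  · -- congruence
    intro χ
    obtain ⟨n, hn⟩ := CfsgLib.Char.IsGeneralized.exists_classInner_eq_int
      (CfsgLib.Char.IsGeneralized.comp (CfsgLib.Char.IsIrrCharacter.isGeneralized (hirr χ)) φ)
      (CfsgLib.Char.IsCharacter.isGeneralized (isCharacter_theta 14))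
    rw [classInner_K, Finset.sum_congr rfl fun x _ => show χ.1 (φ x) * conj (theta 14 x) =
      (fun c : Fin 14 => χ.1 (φ (rep c)) * if c.1 ∈ [0, 3, 4, 5] then (24 : ℂ) else 0) (cls x) by
        rw [theta_last, apply_rep (hirr χ) x, apply_ite (starRingEnd ℂ), map_ofNat, map_zero],
      sum_eq_sum_cls (fun c : Fin 14 =>
        χ.1 (φ (rep c)) * if c.1 ∈ [0, 3, 4, 5] then (24 : ℂ) else 0)] at hn
    have r0 : rep 0 = (1 : K) := by decide +kernel
    have s3 : size 3 = 6 ∧ size 4 = 12 ∧ size 5 = 8 ∧ size 0 = 1 := by decide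
    simp [Fin.sum_univ_succ, s3.1, s3.2.1, s3.2.2.1, s3.2.2.2, r0, hdn χ] at hn
    have q0 := hx χ 0
    have q1 := hx χ 1
    have q2 := hx χ 2
    simp only [coreCls] at q0 q1 q2
    have : ((d χ + 6 * xz z 0 χ + 12 * xz z 1 χ + 8 * xz z 2 χ : ℤ) : ℂ) = ((27 * n : ℤ) : ℂ) := by
      push_cast
      simp only [d, q0, q1, q2, Int.cast_natCast]
      linear_combination 27 * hn
    have := Int.cast_injective this
    omega
  · -- squares
    have hs : ∑ χ ∈ irrFinset G, χ 1 ^ 2 = (Nat.card G : ℂ) := CfsgLib.Char.sum_degree_sq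
    rw [split] at hs
    have : ((1 + ∑ χ : I, d χ * d χ : ℤ) : ℂ) = ((Nat.card G : ℤ) : ℂ) := by
      push_cast
      simpa [d, one, hdn, pow_two] using hs
    have := Int.cast_injective this
    omega
  · -- the class algebra
    intro k
    set a := coreCls (mono k).1
    set b := coreCls (mono k).2.1
    set c := coreCls (mono k).2.2
    have hcp := CfsgLib.Char.card_class_products (φ (rep a)) (φ (rep b)) (φ (rep c))
    rw [h.card_products (coreCls_mem _) (coreCls_mem _) (coreCls_mem _) (mono_ne k), split] at hcp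
    have hk : ∀ e : Fin 3, (Nat.card {x : G // IsConj (φ (rep (coreCls e))) x} : ℂ) *
        (cen (coreCls e) : ℂ) = (Nat.card G : ℂ) := by
      intro e
      rw [← Nat.cast_mul, ← CfsgLib.Char.card_conj_class_mul_card_centralizer (φ (rep (coreCls e))),
        h.card_centralizer_eq (by rw [cls_rep]; exact inD_coreCls e), cls_rep]
    have hA := hk (mono k).1
    have hB := hk (mono k).2.1
    set S : ℂ := ∑ χ : I, χ.1 (φ (rep a)) * χ.1 (φ (rep b)) * conj (χ.1 (φ (rep c))) / χ.1 1 with hS
    have hS' : S = ((∑ χ : I, (monoAt (fun p => xz z p χ) k : ℚ) / d χ : ℚ) : ℂ) := by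
      rw [hS]
      push_cast
      refine Finset.sum_congr rfl fun χ _ => ?_
      simp only [monoAt, Int.cast_mul, hx, d, Int.cast_natCast, hdn χ, a, b, c]
      congr 2
      rw [← hx, map_intCast]
    have hcount : (rhsAt k : ℂ) = (coreCount a b c : ℂ) * (cen a : ℂ) * (cen b : ℂ) := by
      rw [rhs_table k]; push_cast; rfl
    have hg : (Nat.card G : ℂ) ≠ 0 := by exact_mod_cast hcard
    have main : (1 : ℂ) + S = (rhsAt k : ℂ) / (Nat.card G : ℂ) := by
      simp only [one, map_one, mul_one, div_one] at hcp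
      rw [eq_div_iff hg, hcount]
      field_simp at hcp
      apply mul_left_cancel₀ hg
      linear_combination (-(cen a : ℂ) * (cen b : ℂ)) * hcp
        - (1 + S) * (Nat.card {x : G // IsConj (φ (rep b)) x} : ℂ) * (cen b : ℂ) * hA
        - (1 + S) * (Nat.card G : ℂ) * hB
    rw [hS'] at main
    have main' : (((∑ χ : I, (monoAt (fun p => xz z p χ) k : ℚ) / d χ) + 1 : ℚ) : ℂ) =
        (((rhsAt k : ℚ) / ((Nat.card G : ℤ) : ℚ) : ℚ) : ℂ) := by
      push_cast at main ⊢
      linear_combination main
    exact Rat.cast_injective main'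
  · -- second orthogonality with the identity
    intro p
    have hs := CfsgLib.Char.sum_degree_mul_apply (φ (rep (coreCls p)))
    rw [split, if_neg] at hs
    · have : ((∑ χ : I, d χ * xz z p χ + 1 : ℤ) : ℂ) = ((0 : ℤ) : ℂ) := by
        push_cast
        simp only [d, hx, Int.cast_natCast, one, mul_one, ← hdn] at hs ⊢
        linear_combination hs
      exact Int.cast_injective this
    · intro e
      have := h.inj (e.trans (map_one φ).symm)
      have := congrArg cls this
      rw [cls_rep, cls_one] at this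
      exact coreCls_ne_zero p this
  · have htot : ∑ χ ∈ irrFinset G, χ 1 * Cfsg.classInner (fun x => χ (φ x)) (alpha 1) = 0 := by
      simp only [classInner_K, Finset.mul_sum]
      rw [Finset.sum_comm]
      refine Finset.sum_eq_zero fun x _ => ?_
      have e : ∀ χ : G → ℂ, χ 1 * ((648 : ℂ)⁻¹ * (χ (φ x) * conj (alpha 1 x))) =
          (648 : ℂ)⁻¹ * conj (alpha 1 x) * (χ 1 * χ (φ x)) := fun χ => by ring
      rw [Finset.sum_congr rfl fun χ _ => e χ, ← Finset.mul_sum,
        CfsgLib.Char.sum_degree_mul_apply]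
      split_ifs with hx1
      · obtain rfl := h.inj (hx1.trans (map_one φ).symm)
        rw [alpha_outside (by rw [cls_one]; decide)]
        simp
      · ring
    rw [split, hz1] at htot
    have hc1 : cTriv ((1 : Fin 9) : ℕ) = 0 := by decide
    rw [hc1] at htot
    have : ((∑ χ : I, d χ * z χ 1 : ℤ) : ℂ) = ((0 : ℤ) : ℂ) := by
      push_cast
      simp only [← hz, one, Fin.val_one, Int.cast_zero, mul_zero, zero_add] at htot
      simpa [d, ← hdn] using htot
    exact Int.cast_injective this

end CfsgLib.AltNine
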