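import Cfsg.Agent.AltNine.Model
import Cfsg.Agent.Char.ClassProducts

/-!
# Conjugacy classes of the model
-/

set_option autoImplicit false
set_option maxRecDepth 100000
set_option linter.style.haveILetI false

namespace CfsgLib.AltNine

/-- The class number of an element. -/
def cls (x : K) : Fin 14 := ⟨get clsTab 4 x.code % 14, Nat.mod_lt _ (by decide)⟩

/-- Class representatives. -/
def rep (c : Fin 14) : K := ofCode (repList.getD c 0)

/-- Class sizes. -/
def size (c : Fin 14) : ℕ := sizeList.getD c 0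

/-- Centralizer orders. -/
def cen (c : Fin 14) : ℕ := 648 / size c

/-- The classes of elements having a non-trivial power in the translations. -/
def inD (c : Fin 14) : Bool := c.1 ∈ [3, 4, 5, 8, 9, 10, 11, 12, 13]

/-- An exponent carrying a representative into the translations. -/
def expo (c : Fin 14) : ℕ := [1, 1, 1, 1, 1, 1, 1, 1, 2, 2, 3, 3, 4, 4].getD c 1

/-- A conjugator onto the representative. -/
def wit (x : K) : K := ofCode (get witTab 10 x.code)

theorem wit_spec : ∀ a : Fin 24, ∀ v : Fin 27,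
    wit ⟨a, v⟩ * ⟨a, v⟩ * (wit ⟨a, v⟩)⁻¹ = rep (cls ⟨a, v⟩) := by decide +kernel

theorem cls_gen : ∀ k : Fin 4, ∀ a : Fin 24, ∀ v : Fin 27,
    cls (gen k * ⟨a, v⟩ * (gen k)⁻¹) = cls ⟨a, v⟩ := by decide +kernel

theorem cls_conj (g x : K) : cls (g * x * g⁻¹) = cls x := by
  suffices h : ∀ g : K, ∀ x, cls (g * x * g⁻¹) = cls x from h g x
  let S : Subgroup K :=
    { carrier := {g | ∀ x, cls (g * x * g⁻¹) = cls x}
      one_mem' := fun x => by simp
      mul_mem' := fun {g g'} hg hg' x => by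
        have e : g * g' * x * (g * g')⁻¹ = g * (g' * x * g'⁻¹) * g⁻¹ := by group
        rw [e, hg, hg']
      inv_mem' := fun {g} hg x => by
        have := hg (g⁻¹ * x * g⁻¹⁻¹)
        rw [show g * (g⁻¹ * x * g⁻¹⁻¹) * g⁻¹ = x by group] at this
        exact this.symm }
  exact fun g => mem_of_gen (S := S) (fun k x =>
    forall_K (P := fun y => cls (gen k * y * (gen k)⁻¹) = cls y) (cls_gen k) x) g

theorem isConj_rep (x : K) : IsConj x (rep (cls x)) :=
  isConj_iff.2 ⟨wit x, forall_K (P := fun y => wit y * y * (wit y)⁻¹ = rep (cls y)) wit_spec x⟩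

theorem isConj_iff_cls {x y : K} : IsConj x y ↔ cls x = cls y := by
  constructor
  · intro h
    obtain ⟨g, rfl⟩ := isConj_iff.1 h
    exact (cls_conj g x).symm
  · intro h
    have h' := isConj_rep y
    rw [← h] at h'
    exact (isConj_rep x).trans h'.symm

theorem cls_rep : ∀ c, cls (rep c) = c := by decide +kernel

theorem card_cls : ∀ c : Fin 14,
    ((Finset.univ : Finset (Fin 24 × Fin 27)).filter (fun p => cls ⟨p.1, p.2⟩ = c)).card = size c := by
  decide +kernel

theorem size_mul_cen : ∀ c, size c * cen c = 648 := by decide +kernel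

theorem card_filter_cls (c : Fin 14) :
    ((Finset.univ : Finset K).filter (fun x => cls x = c)).card = size c := by
  rw [← card_cls c]
  refine Finset.card_equiv K.equivProd fun x => ?_
  simp [K.equivProd]

theorem card_centralizer (x : K) : Nat.card (Subgroup.centralizer ({x} : Set K)) = cen (cls x) := by
  have h := CfsgLib.Char.card_conj_class_mul_card_centralizer x
  have h1 : Nat.card {y : K // IsConj x y} = size (cls x) := by
    rw [← card_filter_cls, Nat.card_eq_fintype_card, Fintype.card_subtype]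
    congr 1
    ext y
    simp only [Finset.mem_filter, Finset.mem_univ, true_and]
    rw [isConj_iff_cls]
    exact eq_comm
  rw [h1, Nat.card_eq_fintype_card (α := K), card_K, ← size_mul_cen (cls x)] at h
  have hpos : ∀ c, 0 < size c := by decide +kernel
  exact Nat.eq_of_mul_eq_mul_left (hpos _) h

/-- The translations. -/
def tr : Subgroup K where
  carrier := {x | x.h = 0}
  one_mem' := rfl
  mul_mem' := fun {x y} hx hy => by
    show mh x.h y.h = 0
    rw [hx, hy]; rfl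
  inv_mem' := fun {x} hx => by
    show ih x.h = 0
    rw [hx]; rfl

theorem mem_tr {x : K} : x ∈ tr ↔ x.h = 0 := Iff.rfl

instance : DecidablePred (· ∈ tr) := fun x => decidable_of_iff (x.h = 0) Iff.rfl

theorem cls_tr : ∀ a : Fin 24, ∀ v : Fin 27,
    a = 0 ↔ cls ⟨a, v⟩ ∈ ([0, 3, 4, 5] : List (Fin 14)) := by decide +kernel

theorem mem_tr_iff_cls {x : K} : x ∈ tr ↔ cls x ∈ ([0, 3, 4, 5] : List (Fin 14)) :=
  forall_K (P := fun y => y.h = 0 ↔ cls y ∈ ([0, 3, 4, 5] : List (Fin 14))) cls_tr x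

theorem cls_eq_zero : ∀ a : Fin 24, ∀ v : Fin 27, cls ⟨a, v⟩ = 0 ↔ (⟨a, v⟩ : K) = 1 := by
  decide +kernel

theorem tr_normal : tr.Normal := ⟨fun x hx g => by
  rw [mem_tr_iff_cls] at hx ⊢
  rwa [cls_conj]⟩

theorem tr_cube : ∀ v : Fin 27, (⟨0, v⟩ : K) ^ 3 = 1 := by decide +kernel

theorem tr_comm : ∀ u v : Fin 27, (⟨0, u⟩ : K) * ⟨0, v⟩ = ⟨0, v⟩ * ⟨0, u⟩ := by decide +kernel

theorem pow_three_eq_one {x : K} (hx : x ∈ tr) : x ^ 3 = 1 := by
  obtain ⟨a, v⟩ := x
  obtain rfl : a = 0 := hx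
  exact tr_cube v

theorem rep_expo : ∀ c : Fin 14, inD c = true → rep c ^ expo c ≠ 1 ∧ (rep c ^ expo c).h = 0 := by
  decide +kernel

theorem not_core : ∀ c : Fin 14, c ∈ ([0, 3, 4, 5] : List (Fin 14)) ∨ rep c ^ 81 ≠ 1 ∨
    ∃ a : Fin 24, ∃ v : Fin 27, (rep c * (⟨a, v⟩ * rep c * (⟨a, v⟩ : K)⁻¹)) ^ 81 ≠ 1 := by
  decide +kernel

theorem pCore_eq : Cfsg.pCore 3 K = tr := by
  haveI : Fact (Nat.Prime 3) := ⟨Nat.prime_three⟩
  apply le_antisymm
  · rw [Cfsg.pCore, sSup_le_iff]
    rintro N ⟨hN, hp⟩ x hx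
    have h81 : ∀ y ∈ N, y ^ 81 = 1 := by
      intro y hy
      obtain ⟨k, hk⟩ := hp ⟨y, hy⟩
      have hk' : y ^ 3 ^ k = 1 := congrArg Subtype.val hk
      have hc : y ^ 648 = 1 := by
        rw [← card_K, ← Nat.card_eq_fintype_card]
        exact pow_card_eq_one'
      have hd : orderOf y ∣ Nat.gcd (3 ^ k) 648 :=
        Nat.dvd_gcd (orderOf_dvd_of_pow_eq_one hk') (orderOf_dvd_of_pow_eq_one hc)
      obtain ⟨j, hj, hj'⟩ := (Nat.dvd_prime_pow Nat.prime_three).1 (Nat.gcd_dvd_left (3 ^ k) 648)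
      rw [← orderOf_dvd_iff_pow_eq_one]
      refine hd.trans ?_
      rw [hj']
      have h2 : 3 ^ j ∣ 3 ^ 4 * 8 := by rw [← hj']; exact Nat.gcd_dvd_right _ _
      have h3 : 3 ^ j ∣ 3 ^ 4 :=
        (Nat.Coprime.pow_left j (by norm_num : Nat.Coprime 3 8)).dvd_of_dvd_mul_right h2
      exact h3
    have hr : rep (cls x) ∈ N := by
      obtain ⟨g, hg⟩ := isConj_iff.1 (isConj_rep x)
      rw [← hg]; exact hN.conj_mem x hx g
    rw [mem_tr_iff_cls]
    rcases not_core (cls x) with h | h | ⟨a, v, h⟩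
    · exact h
    · exact absurd (h81 _ hr) h
    · exact absurd (h81 _ (N.mul_mem hr (hN.conj_mem _ hr _))) h
  · exact le_sSup ⟨tr_normal, fun y => ⟨1, Subtype.ext (by simpa using pow_three_eq_one y.2)⟩⟩

theorem three_commute : ∀ c : Fin 14, (c = 3 ∨ c = 4) → ∀ a : Fin 24, ∀ v : Fin 27,
    (⟨a, v⟩ : K) ^ 3 = 1 → (⟨a, v⟩ : K) * rep c = rep c * ⟨a, v⟩ → a = 0 := by decide +kernel

theorem cen_inj : ∀ c d : Fin 14, c ∈ ([3, 4, 5] : List (Fin 14)) → d ∈ ([3, 4, 5] : List (Fin 14)) →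
    cen c = cen d → c = d := by decide +kernel

end CfsgLib.AltNine
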