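import Mathlib.Data.Rat.Defs
import Mathlib.Algebra.BigOperators.Group.List.Basic
import Mathlib.Tactic.Ring
import Mathlib.Tactic.Linarith
import Mathlib.Tactic.LinearCombination
import Mathlib.Tactic.FieldSimp
import Mathlib.Tactic.IntervalCases
import Mathlib.Algebra.Order.Field.Basic

/-!
# Refuting a candidate character table of the exceptional characters

A column is the vector (listed backwards) of the multiplicities of one irreducible character of
the group in nine exceptional generalized characters.  The checker `kill` recognises the four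
shapes of complete systems of columns, and each is contradicted by the class algebra equations.
-/

set_option autoImplicit false

namespace CfsgLib.AltNine

/-- Dot product of integer lists. -/
def dot : List ℤ → List ℤ → ℤ
  | [], _ => 0
  | _, [] => 0
  | a :: l, b :: m => a * b + dot l m

theorem dot_map_mul (s : ℤ) : ∀ l m : List ℤ, dot l (m.map (s * ·)) = s * dot l m
  | [], m => by simp [dot]
  | _ :: _, [] => by simp [dot]
  | a :: l, b :: m => by
    simp only [List.map_cons, dot, dot_map_mul s l m]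
    ring

/-- The multiplicity of the trivial character in the nine generalized characters. -/
def cTriv (b : ℕ) : ℤ := [0, 0, 0, 0, 1, 1, 1, 0, 0].getD b 0

/-- The coefficients giving the values at the three classes of the core (listed backwards). -/
def coefX : Fin 3 → List ℤ
  | 0 => [0, -3, 0, -3, 4, 6, 8, 4, -3]
  | 1 => [3, 0, 3, 0, -2, 0, 2, -2, 0]
  | 2 => [-3, 3, -3, 3, 1, 3, -4, 1, 3]

/-- The value at a class of the core. -/
def xv (p : Fin 3) (col : List ℤ) : ℤ := dot (coefX p) col

/-- The seven cubic monomials. -/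
def mono : Fin 7 → Fin 3 × Fin 3 × Fin 3
  | 0 => (0, 0, 1)
  | 1 => (0, 0, 2)
  | 2 => (0, 1, 1)
  | 3 => (0, 1, 2)
  | 4 => (0, 2, 2)
  | 5 => (1, 1, 2)
  | 6 => (1, 2, 2)

/-- A monomial at given values. -/
def monoAt (x : Fin 3 → ℤ) (k : Fin 7) : ℤ := x (mono k).1 * x (mono k).2.1 * x (mono k).2.2

/-- The right hand sides of the class algebra equations. -/
def rhsC : List ℤ := [23328, 0, 11664, 17496, 26244, 17496, 13122]

/-- The right hand side of one equation. -/
def rhsAt (k : Fin 7) : ℤ := rhsC.getD k 0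

/-- A combination of the monomials at given values. -/
def fAt (f : List ℤ) (x : Fin 3 → ℤ) : ℤ :=
  dot f [monoAt x 0, monoAt x 1, monoAt x 2, monoAt x 3, monoAt x 4, monoAt x 5, monoAt x 6]

/-- A combination of the monomials at a column. -/
def fval (f : List ℤ) (col : List ℤ) : ℤ := fAt f fun p => xv p col

/-- The residue forced on a degree. -/
def res (col : List ℤ) : ℤ := -(6 * xv 0 col + 12 * xv 1 col + 8 * xv 2 col)

/-- The linear form separating the two long shapes. -/
def psi (col : List ℤ) : ℤ := 2 * xv 1 col - xv 0 col - xv 2 col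

/-- Isolates one column. -/
def f1 : List ℤ := [2, -1, 2, -6, -1, 2, 2]
/-- Isolates one column. -/
def f2 : List ℤ := [-1, 0, -1, 0, 0, -2, 4]
/-- Relates two columns. -/
def f3 : List ℤ := [-1, 0, -4, -3, 0, 4, 4]
/-- Isolates the columns of the first long shape. -/
def fA : List ℤ := [-1, 0, 1, 0, 0, 0, 0]
/-- Isolates the columns of the second long shape. -/
def fC : List ℤ := [-1, 0, -3, 0, 0, 4, 0]

/-- One column isolated. -/
def single (f : List ℤ) (cols : List (List ℤ)) : Bool :=
  match cols.filter (fun c => fval f c != 0) with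
  | [c] => fAt f (fun _ => 1) == 0 && decide (dot f rhsC * dot f rhsC ≤ 18144 * (fval f c * fval f c))
  | _ => false

/-- Two columns in the ratio six with incompatible residues. -/
def pairOne (c d : List ℤ) : Bool :=
  fval f3 d == -6 * fval f3 c && (res d - 6 * res c) % 27 != 0

/-- Two columns related. -/
def pair (cols : List (List ℤ)) : Bool :=
  match cols.filter (fun c => fval f3 c != 0) with
  | [c, d] => pairOne c d || pairOne d c
  | _ => false

/-- The sign of a column of the first long shape. -/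
def sgnA (c : List ℤ) : ℤ := if xv 0 c = -4 then 1 else -1

/-- The sign of a column of the second long shape. -/
def sgnC (c : List ℤ) : ℤ := if xv 2 c = 3 then 1 else -1

/-- A column of the first long shape. -/
def isA (c : List ℤ) : Bool :=
  xv 0 c == -4 * sgnA c && xv 1 c == 2 * sgnA c && xv 2 c == -1 * sgnA c

/-- A column of the second long shape. -/
def isC (c : List ℤ) : Bool :=
  xv 0 c == 0 && xv 1 c == -3 * sgnC c && xv 2 c == 3 * sgnC c

/-- The entry of the second generalized character. -/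
def entry1 (c : List ℤ) : ℤ := c.getD 7 0

/-- The generic shape. -/
def long (cols : List (List ℤ)) : Bool :=
  cols.all (fun c =>
      (fval fA c == 0 || (isA c && fval fC c == 0)) && (fval fC c == 0 || isC c)
        && (fval fA c != 0 || fval fC c != 0 || psi c == 0)
        && (entry1 c == 0 || fval fA c != 0)) &&
    (cols.filter (fun c => fval fA c != 0)).length == 3 &&
    (cols.filter (fun c => fval fC c != 0)).length == 2 &&
    match cols.filter (fun c => entry1 c != 0) with
    | [c, d] => sgnA c * entry1 c + sgnA d * entry1 d == 0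
    | _ => false

/-- The checker. -/
def kill (cols : List (List ℤ)) : Bool := single f1 cols || single f2 cols || pair cols || long cols

/-- The facts known about a complete system of columns with signed degrees. -/
structure Sys (g : ℤ) (P : List (List ℤ × ℤ)) : Prop where
  large : 18144 ≤ g
  residue : g % 17496 = 648
  ne_zero : ∀ e ∈ P, e.2 ≠ 0
  cong : ∀ e ∈ P, (e.2 - res e.1) % 27 = 0
  squares : (P.map fun e => e.2 * e.2).sum < g
  cubic : ∀ f ∈ [f1, f2, f3, fA, fC],
    (P.map fun e => (fval f e.1 : ℚ) / e.2).sum + (fAt f fun _ => 1) = (dot f rhsC : ℚ) / g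
  psi_sum : (P.map fun e => e.2 * psi e.1).sum = 0
  entry_sum : (P.map fun e => e.2 * entry1 e.1).sum = 0

theorem filter_fst {β : Type*} (q : List ℤ → Bool) (P : List (List ℤ × β)) :
    (P.map Prod.fst).filter q = (P.filter fun e => q e.1).map Prod.fst := by
  rw [List.filter_map]; rfl

theorem sum_map_filter {α M : Type*} [AddMonoid M] (q : α → Bool) (h : α → M) :
    ∀ P : List α, (∀ e ∈ P, q e = false → h e = 0) → (P.map h).sum = ((P.filter q).map h).sum
  | [], _ => rfl
  | e :: P, hh => by
    have ih := sum_map_filter q h P fun x hx => hh x (List.mem_cons_of_mem _ hx)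
    by_cases hq : q e = true
    · simp [List.filter_cons, hq, ih]
    · simp [List.filter_cons, hq, ih, hh e List.mem_cons_self (by simpa using hq)]

theorem sum_filter_le {α : Type*} (q : α → Bool) (h : α → ℤ) (h0 : ∀ e, 0 ≤ h e) :
    ∀ P : List α, ((P.filter q).map h).sum ≤ (P.map h).sum
  | [] => le_rfl
  | e :: P => by
    have ih := sum_filter_le q h h0 P
    by_cases hq : q e = true
    · simpa [List.filter_cons, hq] using ih
    · simp only [List.filter_cons, hq, List.map_cons, List.sum_cons]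
      simpa using le_add_of_nonneg_of_le (h0 e) ih

theorem Sys.isolated {g : ℤ} {P : List (List ℤ × ℤ)} (h : Sys g P) {f : List ℤ}
    (hf : f ∈ [f1, f2, f3, fA, fC]) :
    ((P.filter fun e => fval f e.1 != 0).map fun e => (fval f e.1 : ℚ) / e.2).sum
      + (fAt f fun _ => 1) = (dot f rhsC : ℚ) / g := by
  rw [← h.cubic f hf, sum_map_filter (fun e : List ℤ × ℤ => fval f e.1 != 0)
    (fun e => (fval f e.1 : ℚ) / e.2) P fun e _ he => ?_]
  simp at he
  simp [he]

theorem Sys.not_single {g : ℤ} {P : List (List ℤ × ℤ)} (h : Sys g P) {f : List ℤ}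
    (hf : f ∈ [f1, f2, f3, fA, fC]) : single f (P.map Prod.fst) = false := by
  have hi := h.isolated hf
  have hg : (0 : ℤ) < g := lt_of_lt_of_le (by norm_num) h.large
  rw [single, filter_fst]
  rcases hl : P.filter (fun e => fval f e.1 != 0) with _ | ⟨e, _ | ⟨e', l⟩⟩
  · simp [hl]
  · rw [hl] at hi
    simp only [hl, List.map_cons, List.map_nil, List.sum_cons, List.sum_nil, add_zero] at hi ⊢
    by_contra hne
    simp only [Bool.not_eq_false, Bool.and_eq_true, beq_iff_eq, decide_eq_true_eq] at hne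
    obtain ⟨h1, h2⟩ := hne
    have he : e ∈ P.filter (fun e => fval f e.1 != 0) := by simp [hl]
    obtain ⟨heP, hev⟩ := List.mem_filter.1 he
    simp at hev
    have hd := h.ne_zero e heP
    rw [h1, Int.cast_zero, add_zero, div_eq_div_iff (by exact_mod_cast hd)
      (by exact_mod_cast hg.ne')] at hi
    have hi' : fval f e.1 * g = dot f rhsC * e.2 := by exact_mod_cast hi
    have hsq : e.2 * e.2 < g := by
      have := sum_filter_le (fun x : List ℤ × ℤ => fval f x.1 != 0) (fun x => x.2 * x.2)
        (fun x => mul_self_nonneg _) P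
      rw [hl] at this
      simp at this
      linarith [h.squares]
    set v := fval f e.1
    set R := dot f rhsC
    have hv : 0 < v * v := mul_self_pos.2 hev
    have e2 : v * v * g * g = R * R * (e.2 * e.2) := by
      linear_combination (v * g + R * e.2) * hi'
    have h4 : v * v * g * g ≤ R * R * g := by
      rw [e2]; exact mul_le_mul_of_nonneg_left hsq.le (mul_self_nonneg R)
    have h5 : v * v * g ≤ R * R := le_of_mul_le_mul_right (by linarith) hg
    by_cases hR : R = 0
    · rw [hR] at h5; nlinarith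
    · have h6 : v * v * g * g < R * R * g := by
        rw [e2]; exact mul_lt_mul_of_pos_left hsq (mul_self_pos.2 hR)
      have h7 : v * v * g < R * R := lt_of_mul_lt_mul_right (by linarith) hg.le
      nlinarith [mul_le_mul_of_nonneg_left h.large hv.le]
  · simp [hl]

theorem Sys.not_pairOne {g : ℤ} {P : List (List ℤ × ℤ)} (h : Sys g P) {c d : List ℤ × ℤ}
    (hc : c ∈ P) (hd : d ∈ P) (hc0 : fval f3 c.1 ≠ 0)
    (he : (fval f3 c.1 : ℚ) / c.2 + (fval f3 d.1 : ℚ) / d.2 = 0) :
    pairOne c.1 d.1 = false := by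
  by_contra hne
  simp only [pairOne, Bool.not_eq_false, Bool.and_eq_true, beq_iff_eq, bne_iff_ne] at hne
  obtain ⟨h1, h2⟩ := hne
  have h0 := h.ne_zero c hc
  have h0' := h.ne_zero d hd
  rw [h1, div_add_div _ _ (by exact_mod_cast h0) (by exact_mod_cast h0'), div_eq_zero_iff] at he
  rcases he with he | he
  · have he' : fval f3 c.1 * d.2 + c.2 * (-6 * fval f3 c.1) = 0 := by exact_mod_cast he
    have : fval f3 c.1 * (d.2 - 6 * c.2) = 0 := by linarith
    have h3 : d.2 - 6 * c.2 = 0 := (mul_eq_zero.1 this).resolve_left hc0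
    have h4 := h.cong c hc
    have h5 := h.cong d hd
    omega
  · rcases mul_eq_zero.1 he with he | he <;> norm_cast at he

theorem Sys.not_pair {g : ℤ} {P : List (List ℤ × ℤ)} (h : Sys g P) :
    pair (P.map Prod.fst) = false := by
  have hi := h.isolated (f := f3) (by simp)
  rw [pair, filter_fst]
  rcases hl : P.filter (fun e => fval f3 e.1 != 0) with _ | ⟨c, _ | ⟨d, _ | ⟨e', l⟩⟩⟩ <;>
    (first | (simp [hl]; done) | skip)
  rw [hl] at hi
  have e1 : (fAt f3 fun _ => 1) = 0 := by decide
  have e2 : dot f3 rhsC = 0 := by decide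
  simp only [e1, e2, Int.cast_zero, add_zero, zero_div, List.map_cons, List.map_nil, List.sum_cons,
    List.sum_nil] at hi
  have hc : c ∈ P.filter (fun e => fval f3 e.1 != 0) := by simp [hl]
  have hd : d ∈ P.filter (fun e => fval f3 e.1 != 0) := by simp [hl]
  rw [List.mem_filter, bne_iff_ne] at hc hd
  simp [hl, List.map_cons, h.not_pairOne hc.1 hd.1 hc.2 hi,
    h.not_pairOne hd.1 hc.1 hd.2 (by rw [add_comm]; exact hi)]

/-- The final arithmetic. -/
theorem long_arith {g u w c₁ c₂ : ℤ} (hg : 18144 ≤ g) (hres : g % 17496 = 648)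
    (hS : c₁ + c₂ = 2 * u + w) (hA : g * (2 * w + u) = 243 * (u * w))
    (hC : g * (c₁ + c₂) = 108 * (c₁ * c₂)) (hu : (u - 8) % 27 = 0) (hw : (w - 8) % 27 = 0)
    (hA2 : 2 * (u * u) + w * w < g) (hC2 : c₁ * c₁ + c₂ * c₂ < g) : False := by
  set S := c₁ + c₂ with hSdef
  have hS0 : (S + 3) % 27 = 0 := by omega
  have hsq : c₁ * c₁ + c₂ * c₂ = S * S - 2 * (c₁ * c₂) := by rw [hSdef]; ring
  have hdisc : 4 * (c₁ * c₂) ≤ S * S := by rw [hSdef]; nlinarith [mul_self_nonneg (c₁ - c₂)]
  have hneg : S < 0 := by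
    by_contra hpos
    have hSp : 0 < S := by omega
    have h27 : g ≤ 27 * S := by nlinarith
    nlinarith
  have hlow : -54 < S := by
    by_contra hlo
    nlinarith
  have hcase : S = -3 ∨ S = -30 := by omega
  have hub : u ≤ 100 ∧ -100 ≤ u := by
    constructor
    · by_contra hh
      rcases hcase with e | e <;> nlinarith
    · by_contra hh
      rcases hcase with e | e <;> nlinarith
  obtain ⟨k, hk⟩ : ∃ k, u = 27 * k + 8 := ⟨(u - 8) / 27, by omega⟩
  have hk1 : k ≤ 3 := by omega
  have hk2 : -4 ≤ k := by omega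
  have hw' : w = S - 2 * u := by omega
  subst hw' hk
  rcases hcase with e | e <;> rw [e] at hA hA2 <;> interval_cases k <;> norm_num at hA hA2 <;> omega

theorem Sys.not_long {g : ℤ} {P : List (List ℤ × ℤ)} (h : Sys g P) :
    long (P.map Prod.fst) = false := by
  by_contra hne
  simp only [long, Bool.not_eq_false, Bool.and_eq_true, beq_iff_eq, filter_fst, List.length_map,
    List.all_eq_true, List.mem_map, forall_exists_index, and_imp, forall_apply_eq_imp_iff₂,
    Bool.or_eq_true, bne_iff_ne] at hne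
  obtain ⟨⟨⟨hall, hlA⟩, hlC⟩, hmatch⟩ := hne
  have hall' : ∀ e ∈ P, (fval fA e.1 = 0 ∨ isA e.1 = true ∧ fval fC e.1 = 0) ∧
      (fval fC e.1 = 0 ∨ isC e.1 = true) ∧
      (fval fA e.1 ≠ 0 ∨ fval fC e.1 ≠ 0 ∨ psi e.1 = 0) ∧ (entry1 e.1 = 0 ∨ fval fA e.1 ≠ 0) := by
    intro e he
    have := hall e he
    tauto
  clear hall
  set qA := fun e : List ℤ × ℤ => fval fA e.1 != 0 with hqA
  set qC := fun e : List ℤ × ℤ => fval fC e.1 != 0 with hqC
  have hfA := h.isolated (f := fA) (by simp)
  have hfC := h.isolated (f := fC) (by simp)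
  have sqA := sum_filter_le qA (fun e => e.2 * e.2) (fun e => mul_self_nonneg _) P
  have sqC := sum_filter_le qC (fun e => e.2 * e.2) (fun e => mul_self_nonneg _) P
  obtain ⟨a, b, c, hA3⟩ := List.length_eq_three.1 hlA
  obtain ⟨p, q, hC2'⟩ := List.length_eq_two.1 hlC
  rw [hA3] at hfA sqA
  rw [hC2'] at hfC sqC
  have keyA : ∀ e ∈ P.filter qA, sgnA e.1 * sgnA e.1 = 1 ∧ fval fA e.1 = -48 * sgnA e.1 ∧
      psi e.1 = 9 * sgnA e.1 ∧ (sgnA e.1 * e.2 - 8) % 27 = 0 := by
    intro e he
    obtain ⟨hm, hv⟩ := List.mem_filter.1 he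
    simp only [hqA, bne_iff_ne] at hv
    have h2 := ((hall' e hm).1.resolve_left hv).1
    simp only [isA, Bool.and_eq_true, beq_iff_eq] at h2
    have hs : sgnA e.1 = 1 ∨ sgnA e.1 = -1 := by unfold sgnA; split_ifs <;> simp
    have hc := h.cong e hm
    simp only [res, psi, fval, fAt, fA, monoAt, mono, dot, h2.1.1, h2.1.2, h2.2] at hc ⊢
    rcases hs with hs | hs <;> rw [hs] at hc ⊢ <;> norm_num at hc ⊢ <;> omega
  have keyC : ∀ e ∈ P.filter qC, sgnC e.1 * sgnC e.1 = 1 ∧ fval fC e.1 = 108 * sgnC e.1 ∧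
      psi e.1 = -9 * sgnC e.1 := by
    intro e he
    obtain ⟨hm, hv⟩ := List.mem_filter.1 he
    simp only [hqC, bne_iff_ne] at hv
    have h2 := (hall' e hm).2.1.resolve_left hv
    simp only [isC, Bool.and_eq_true, beq_iff_eq] at h2
    have hs : sgnC e.1 = 1 ∨ sgnC e.1 = -1 := by unfold sgnC; split_ifs <;> simp
    simp only [psi, fval, fAt, fC, monoAt, mono, dot, h2.1.1, h2.1.2, h2.2]
    rcases hs with hs | hs <;> rw [hs] <;> norm_num
  -- the linear form
  have hpsi := h.psi_sum
  have split : ∀ L : List (List ℤ × ℤ), (∀ e ∈ L, e ∈ P) →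
      (L.map fun e => e.2 * psi e.1).sum = ((L.filter qA).map fun e => e.2 * psi e.1).sum +
        ((L.filter qC).map fun e => e.2 * psi e.1).sum := by
    intro L
    induction L with
    | nil => simp
    | cons e L ih =>
      intro hL
      have he := hall' e (hL e List.mem_cons_self)
      have := ih fun x hx => hL x (List.mem_cons_of_mem _ hx)
      by_cases hA' : fval fA e.1 = 0
      · by_cases hC' : fval fC e.1 = 0
        · have : psi e.1 = 0 := by tauto
          simp_all [List.filter_cons]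
        · simp_all [List.filter_cons]; ring
      · have hC' : fval fC e.1 = 0 := by tauto
        simp_all [List.filter_cons]; ring
  rw [split P fun _ he => he, hA3, hC2'] at hpsi
  have hent := h.entry_sum
  have hsub : (fun e : List ℤ × ℤ => entry1 e.1 != 0) = fun e => (entry1 e.1 != 0) := rfl
  rw [sum_map_filter (fun e : List ℤ × ℤ => entry1 e.1 != 0) _ P
    (fun e _ he => by simp at he; simp [he])] at hent
  have hBA : P.filter (fun e => entry1 e.1 != 0) = [a, b, c].filter (fun e => entry1 e.1 != 0) := by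
    rw [← hA3, List.filter_filter]
    refine List.filter_congr fun e he => ?_
    have := (hall' e he).2.2.2
    simp only [hqA]
    rcases this with h' | h' <;> simp [h']
  rw [hBA] at hent hmatch
  have kA : ∀ e ∈ [a, b, c], _ := fun e he => keyA e (hA3 ▸ he)
  have kC : ∀ e ∈ [p, q], _ := fun e he => keyC e (hC2' ▸ he)
  obtain ⟨sa, va, pa, ca⟩ := kA a (by simp)
  obtain ⟨sb, vb, pb, cb⟩ := kA b (by simp)
  obtain ⟨sc, vc, pc, cc⟩ := kA c (by simp)
  obtain ⟨sp, vp, pp⟩ := kC p (by simp)
  obtain ⟨sq, vq, pq⟩ := kC q (by simp)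
  have hg : (0 : ℤ) < g := lt_of_lt_of_le (by norm_num) h.large
  have nz : ∀ e, e ∈ P.filter qA ∨ e ∈ P.filter qC → e.2 ≠ 0 := fun e he =>
    h.ne_zero e (he.elim (fun he => (List.mem_filter.1 he).1) (fun he => (List.mem_filter.1 he).1))
  have da := nz a (.inl (by simp [hA3]))
  have db := nz b (.inl (by simp [hA3]))
  have dc := nz c (.inl (by simp [hA3]))
  have dp := nz p (.inr (by simp [hC2']))
  have dq := nz q (.inr (by simp [hC2']))
  have inv_sgn : ∀ (s d : ℤ), s * s = 1 → ((s : ℚ) / d) = 1 / ((s * d : ℤ) : ℚ) := by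
    intro s d hs
    rcases mul_self_eq_one_iff.1 hs with rfl | rfl <;> push_cast <;> simp [neg_div, one_div, inv_neg]
  -- the two cubic equations in normalised signed degrees
  set u₁ := sgnA a.1 * a.2 with hu₁
  set u₂ := sgnA b.1 * b.2 with hu₂
  set u₃ := sgnA c.1 * c.2 with hu₃
  set c₁ := sgnC p.1 * p.2 with hc₁
  set c₂ := sgnC q.1 * q.2 with hc₂
  have n1 : u₁ ≠ 0 := by intro e; rw [e] at ca; omega
  have n2 : u₂ ≠ 0 := by intro e; rw [e] at cb; omega
  have n3 : u₃ ≠ 0 := by intro e; rw [e] at cc; omega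
  have m1 : c₁ ≠ 0 := mul_ne_zero (by intro e; rw [e] at sp; simp at sp) dp
  have m2 : c₂ ≠ 0 := mul_ne_zero (by intro e; rw [e] at sq; simp at sq) dq
  have eA1 : (fAt fA fun _ => 1) = 0 := by decide
  have eA2 : dot fA rhsC = -11664 := by decide
  have eC1 : (fAt fC fun _ => 1) = 0 := by decide
  have eC2 : dot fC rhsC = 11664 := by decide
  simp only [List.map_cons, List.map_nil, List.sum_cons, List.sum_nil, add_zero, va, vb, vc, vp, vq,
    pa, pb, pc, pp, pq, eA1, eA2, eC1, eC2, Int.cast_zero] at hfA hfC hpsi sqA sqC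
  simp only [Int.cast_mul, mul_div_assoc, inv_sgn _ _ sa, inv_sgn _ _ sb, inv_sgn _ _ sc,
    inv_sgn _ _ sp, inv_sgn _ _ sq, ← hu₁, ← hu₂, ← hu₃, ← hc₁, ← hc₂] at hfA hfC
  have gq : (g : ℚ) ≠ 0 := by exact_mod_cast hg.ne'
  have EA : g * (u₁ * u₂ + u₁ * u₃ + u₂ * u₃) = 243 * (u₁ * u₂ * u₃) := by
    have : (g : ℚ) * (u₁ * u₂ + u₁ * u₃ + u₂ * u₃) = 243 * (u₁ * u₂ * u₃) := by
      have q1 : (u₁ : ℚ) ≠ 0 := by exact_mod_cast n1
      have q2 : (u₂ : ℚ) ≠ 0 := by exact_mod_cast n2
      have q3 : (u₃ : ℚ) ≠ 0 := by exact_mod_cast n3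
      push_cast at hfA
      field_simp at hfA
      linarith
    exact_mod_cast this
  have EC : g * (c₁ + c₂) = 108 * (c₁ * c₂) := by
    have : (g : ℚ) * (c₁ + c₂) = 108 * (c₁ * c₂) := by
      have q1 : (c₁ : ℚ) ≠ 0 := by exact_mod_cast m1
      have q2 : (c₂ : ℚ) ≠ 0 := by exact_mod_cast m2
      push_cast at hfC
      field_simp at hfC
      linarith
    exact_mod_cast this
  have ES : u₁ + u₂ + u₃ = c₁ + c₂ := by rw [hu₁, hu₂, hu₃, hc₁, hc₂]; linarith
  have sq1 : ∀ s d : ℤ, s * s = 1 → (s * d) * (s * d) = d * d := fun s d hs => by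
    rw [show s * d * (s * d) = (s * s) * (d * d) by ring, hs, one_mul]
  have hA2 : u₁ * u₁ + u₂ * u₂ + u₃ * u₃ < g := by
    rw [hu₁, hu₂, hu₃, sq1 _ _ sa, sq1 _ _ sb, sq1 _ _ sc]; linarith [h.squares]
  have hC2 : c₁ * c₁ + c₂ * c₂ < g := by
    rw [hc₁, hc₂, sq1 _ _ sp, sq1 _ _ sq]; linarith [h.squares]
  -- two of the three are equal
  have equal : ∀ x y : List ℤ × ℤ, sgnA x.1 * sgnA x.1 = 1 → sgnA y.1 * sgnA y.1 = 1 → entry1 x.1 ≠ 0 →
      sgnA x.1 * entry1 x.1 + sgnA y.1 * entry1 y.1 = 0 →
      x.2 * entry1 x.1 + y.2 * entry1 y.1 = 0 → sgnA x.1 * x.2 = sgnA y.1 * y.2 := by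
    intro x y hx hy h0 h1 h2
    have hne : sgnA x.1 * entry1 x.1 ≠ 0 := mul_ne_zero (by intro e; rw [e] at hx; simp at hx) h0
    apply mul_left_cancel₀ hne
    linear_combination (sgnA x.1 * sgnA x.1) * h2 - (sgnA y.1 * y.2) * h1 * 1
      + (entry1 y.1 * y.2) * hy - (entry1 y.1 * y.2) * hx
  by_cases ea : entry1 a.1 = 0 <;> by_cases eb : entry1 b.1 = 0 <;> by_cases ec : entry1 c.1 = 0 <;>
    simp [List.filter_cons, ea, eb, ec] at hmatch hent
  · have e := equal b c sb sc eb hmatch hent
    rw [← hu₂, ← hu₃] at e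
    rw [e] at EA ES hA2
    exact long_arith (u := u₃) (w := u₁) h.large h.residue (by linarith)
      (mul_left_cancel₀ n3 (by linear_combination EA)) EC cc ca (by linarith) hC2
  · have e := equal a c sa sc ea hmatch hent
    rw [← hu₁, ← hu₃] at e
    rw [e] at EA ES hA2
    exact long_arith (u := u₃) (w := u₂) h.large h.residue (by linarith)
      (mul_left_cancel₀ n3 (by linear_combination EA)) EC cc cb (by linarith) hC2
  · have e := equal a b sa sb ea hmatch hent
    rw [← hu₁, ← hu₂] at e
    rw [e] at EA ES hA2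
    exact long_arith (u := u₂) (w := u₃) h.large h.residue (by linarith)
      (mul_left_cancel₀ n2 (by linear_combination EA)) EC cb cc (by linarith) hC2

theorem Sys.not_kill {g : ℤ} {P : List (List ℤ × ℤ)} (h : Sys g P) :
    kill (P.map Prod.fst) = false := by
  simp [kill, h.not_single (f := f1) (by simp), h.not_single (f := f2) (by simp), h.not_pair,
    h.not_long]

end CfsgLib.AltNine
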