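import Cfsg.Agent.AltNine.Classes
import Mathlib.GroupTheory.GroupAction.Quotient

/-!
# Fusion and products in the core

For a group containing the model so that centralizers of core elements stay inside and the core is
strongly closed, fusion of elements with a power in the core is controlled by the model, and two
elements of core classes, not all three of one class, with product in the core lie in the core.
-/

set_option autoImplicit false
set_option maxRecDepth 100000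
set_option linter.style.haveILetI false
set_option maxHeartbeats 400000

namespace CfsgLib.AltNine

variable {G : Type*} [Group G] [Finite G]

/-- The standing hypotheses. -/
structure Hyp (φ : K →* G) : Prop where
  inj : Function.Injective φ
  cent : ∀ x ∈ tr, x ≠ 1 → ∀ g : G, g * φ x = φ x * g → g ∈ φ.range
  closed : ∀ x ∈ tr, ∀ g : G, ∀ y : K, g * φ x * g⁻¹ = φ y → y ∈ tr

theorem cls_one : cls 1 = 0 := by decide +kernel

theorem cls_mem_core {x : K} (hx : x ∈ tr) (h1 : x ≠ 1) :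
    cls x ∈ ([3, 4, 5] : List (Fin 14)) := by
  have h := mem_tr_iff_cls.1 hx
  rcases List.mem_cons.1 h with h0 | h0
  · exact absurd (forall_K (P := fun y => cls y = 0 ↔ y = 1) cls_eq_zero x |>.1 h0) h1
  · exact h0

theorem mem_core_of_cls {x : K} (h : cls x ∈ ([3, 4, 5] : List (Fin 14))) : x ∈ tr ∧ x ≠ 1 :=
  ⟨mem_tr_iff_cls.2 (List.mem_cons_of_mem _ h), fun e => by simp [e, cls_one] at h⟩

theorem cls_inv_tr : ∀ v : Fin 27, cls (⟨0, v⟩ : K)⁻¹ = cls ⟨0, v⟩ := by decide +kernel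

theorem cls_inv {x : K} (hx : x ∈ tr) : cls x⁻¹ = cls x := by
  obtain ⟨a, v⟩ := x
  obtain rfl : a = 0 := hx
  exact cls_inv_tr v

theorem exists_pow_core {x : K} (hx : inD (cls x) = true) :
    ∃ e : ℕ, x ^ e ≠ 1 ∧ x ^ e ∈ tr := by
  obtain ⟨k, hk⟩ := isConj_iff.1 (isConj_rep x)
  obtain ⟨h1, h2⟩ := rep_expo _ hx
  set e := expo (cls x)
  refine ⟨e, fun h => h1 ?_, ?_⟩
  · rw [← hk, conj_pow, h]; simp
  · have : rep (cls x) ^ e ∈ tr := h2
    rw [← hk, conj_pow] at this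
    have := tr_normal.conj_mem _ this k⁻¹
    simpa [mul_assoc] using this

theorem card_centralizer_conj (g z : G) :
    Nat.card (Subgroup.centralizer ({g * z * g⁻¹} : Set G)) =
      Nat.card (Subgroup.centralizer ({z} : Set G)) := by
  refine (Nat.card_congr ((MulAut.conj g).toEquiv.subtypeEquiv fun y => ?_)).symm
  rw [Subgroup.mem_centralizer_singleton_iff, Subgroup.mem_centralizer_singleton_iff]
  simp only [MulEquiv.toEquiv_eq_coe, EquivLike.coe_coe, MulAut.conj_apply]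
  constructor
  · intro h
    calc g * y * g⁻¹ * (g * z * g⁻¹) = g * (y * z) * g⁻¹ := by group
      _ = g * (z * y) * g⁻¹ := by rw [h]
      _ = _ := by group
  · intro h
    calc y * z = g⁻¹ * (g * y * g⁻¹ * (g * z * g⁻¹)) * g := by group
      _ = g⁻¹ * (g * z * g⁻¹ * (g * y * g⁻¹)) * g := by rw [h]
      _ = _ := by group

namespace Hyp

variable {φ : K →* G} (h : Hyp φ)
include h

theorem centralizer_le {x : K} (hx : inD (cls x) = true) {g : G} (hg : g * φ x = φ x * g) :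
    g ∈ φ.range := by
  obtain ⟨e, h1, h2⟩ := exists_pow_core hx
  refine h.cent _ h2 h1 g ?_
  rw [map_pow]
  exact (Commute.pow_right (show Commute g (φ x) from hg) e).eq

theorem card_centralizer_eq {x : K} (hx : inD (cls x) = true) :
    Nat.card (Subgroup.centralizer ({φ x} : Set G)) = cen (cls x) := by
  rw [← card_centralizer x]
  refine (Nat.card_eq_of_bijective
    (fun y : Subgroup.centralizer ({x} : Set K) => (⟨φ y, ?_⟩ : Subgroup.centralizer ({φ x} : Set G)))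
    ⟨?_, ?_⟩).symm
  · rw [Subgroup.mem_centralizer_singleton_iff, ← map_mul, ← map_mul]
    exact congrArg φ (Subgroup.mem_centralizer_singleton_iff.1 y.2)
  · exact fun a b hab => Subtype.ext (h.inj (congrArg Subtype.val hab))
  · rintro ⟨g, hg⟩
    rw [Subgroup.mem_centralizer_singleton_iff] at hg
    obtain ⟨k, rfl⟩ := h.centralizer_le hx hg
    refine ⟨⟨k, Subgroup.mem_centralizer_singleton_iff.2 (h.inj ?_)⟩, rfl⟩
    rw [map_mul, map_mul]; exact hg

omit h in
theorem inD_core {x : K} (hx : x ∈ tr) (h1 : x ≠ 1) : inD (cls x) = true := by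
  have h := cls_mem_core hx h1
  revert h
  generalize cls x = c
  revert c
  decide

/-- Fusion of core elements. -/
theorem fusion_core {x y : K} (hx : x ∈ tr) (h1 : x ≠ 1) {g : G} (hg : g * φ x * g⁻¹ = φ y) :
    ∃ k : K, φ k = g ∧ k * x * k⁻¹ = y := by
  have hy : y ∈ tr := h.closed x hx g y hg
  have hy1 : y ≠ 1 := by
    intro e
    rw [e, map_one, conj_eq_one_iff] at hg
    exact h1 (h.inj (hg.trans (map_one φ).symm))
  have hcen : cen (cls x) = cen (cls y) := by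
    rw [← h.card_centralizer_eq (inD_core hx h1), ← h.card_centralizer_eq (inD_core hy hy1), ← hg,
      card_centralizer_conj]
  have hc : cls x = cls y := cen_inj _ _ (cls_mem_core hx h1) (cls_mem_core hy hy1) hcen
  obtain ⟨k, hk⟩ := isConj_iff.1 (isConj_iff_cls.2 hc)
  have hcomm : (φ k)⁻¹ * g * φ x = φ x * ((φ k)⁻¹ * g) := by
    calc (φ k)⁻¹ * g * φ x = (φ k)⁻¹ * (g * φ x * g⁻¹) * g := by group
      _ = (φ k)⁻¹ * φ (k * x * k⁻¹) * g := by rw [hg, hk]
      _ = φ x * ((φ k)⁻¹ * g) := by rw [map_mul, map_mul, map_inv]; group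
  obtain ⟨m, hm⟩ := h.cent x hx h1 _ hcomm
  have hkm : φ (k * m) = g := by rw [map_mul, hm]; group
  refine ⟨k * m, hkm, h.inj ?_⟩
  rw [map_mul, map_mul, map_inv, hkm, hg]

/-- Fusion of elements with a power in the core. -/
theorem fusion {x y : K} (hx : inD (cls x) = true) {g : G} (hg : g * φ x * g⁻¹ = φ y) :
    ∃ k : K, φ k = g ∧ k * x * k⁻¹ = y := by
  obtain ⟨e, h1, h2⟩ := exists_pow_core hx
  have he : g * φ (x ^ e) * g⁻¹ = φ (y ^ e) := by rw [map_pow, map_pow, ← hg, conj_pow]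
  obtain ⟨k, hk, -⟩ := h.fusion_core h2 h1 he
  refine ⟨k, hk, h.inj ?_⟩
  rw [map_mul, map_mul, map_inv, hk, hg]

theorem isConj_iff_of_inD {x y : K} (hx : inD (cls x) = true) :
    IsConj (φ x) (φ y) ↔ cls x = cls y := by
  constructor
  · intro hc
    obtain ⟨g, hg⟩ := isConj_iff.1 hc
    obtain ⟨k, -, hk⟩ := h.fusion hx hg
    exact isConj_iff_cls.1 (isConj_iff.2 ⟨k, hk⟩)
  · exact fun e => MonoidHom.map_isConj φ (isConj_iff_cls.2 e)

omit h in
theorem commute_core {a z : K} (ha : cls a = 3 ∨ cls a = 4) (hz : z ^ 3 = 1) (hc : z * a = a * z) :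
    z ∈ tr := by
  obtain ⟨k, hk⟩ := isConj_iff.1 (isConj_rep a)
  have h1 : (k * z * k⁻¹) ^ 3 = 1 := by rw [conj_pow, hz]; group
  have h2 : k * z * k⁻¹ * rep (cls a) = rep (cls a) * (k * z * k⁻¹) := by
    rw [← hk]
    calc k * z * k⁻¹ * (k * a * k⁻¹) = k * (z * a) * k⁻¹ := by group
      _ = k * (a * z) * k⁻¹ := by rw [hc]
      _ = _ := by group
  have h3 : (k * z * k⁻¹) ∈ tr := three_commute (cls a) ha _ _ h1 h2
  have := tr_normal.conj_mem _ h3 k⁻¹
  simpa [mul_assoc] using this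

/-- Two elements of order three with product of order three, one of them central enough in the
core, generate a subgroup of the core unless they are conjugate. -/
theorem pair {a y : K} {b : G} (ha : cls a = 3 ∨ cls a = 4) (hy : y ∈ tr) (hy1 : y ≠ 1)
    (hyb : IsConj (φ y) b) (hne : cls y ≠ cls a) (hab : (φ a * b) ^ 3 = 1) :
    ∃ b' ∈ tr, φ b' = b := by
  obtain ⟨hat, ha1⟩ := mem_core_of_cls (x := a) (by rcases ha with e | e <;> simp [e])
  obtain ⟨gy, hgy⟩ := isConj_iff.1 hyb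
  have hb3 : b ^ 3 = 1 := by
    rw [← hgy, conj_pow, ← map_pow, pow_three_eq_one hy, map_one]; group
  set A₀ : G := φ a with hA₀
  have ha' : A₀ * A₀ * A₀ = 1 := by
    rw [hA₀, ← map_mul, ← map_mul]
    have := congrArg φ (pow_three_eq_one hat)
    rw [map_one] at this
    rw [← this, pow_succ, pow_two]
  have hb' : b * b * b = 1 := by rw [← hb3, pow_succ, pow_two]
  have hc' : A₀ * b * (A₀ * b) * (A₀ * b) = 1 := by rw [← hab, pow_succ, pow_two]
  have ai : A₀⁻¹ = A₀ * A₀ := inv_eq_of_mul_eq_one_left ha'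
  have bi : b⁻¹ = b * b := inv_eq_of_mul_eq_one_left hb'
  set x : G := A₀⁻¹ * b with hx
  set w : G := b * A₀⁻¹ with hw
  have hbab : b * A₀ * b = A₀⁻¹ * b⁻¹ * A₀⁻¹ := by
    calc b * A₀ * b = A₀⁻¹ * (A₀ * b * (A₀ * b) * (A₀ * b)) * b⁻¹ * A₀⁻¹ := by group
      _ = _ := by rw [hc', mul_one]
  have haa : A₀⁻¹ * A₀⁻¹ = A₀ := by rw [← mul_inv_rev, ← ai, inv_inv]
  have hxw : x * w = A₀⁻¹ * b⁻¹ * A₀⁻¹ := by
    rw [hx, hw, bi]; group
  have hwx : w * x = A₀⁻¹ * b⁻¹ * A₀⁻¹ := by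
    rw [hx, hw]
    calc b * A₀⁻¹ * (A₀⁻¹ * b) = b * (A₀⁻¹ * A₀⁻¹) * b := by group
      _ = b * A₀ * b := by rw [haa]
      _ = _ := hbab
  have hcomm : x * w = w * x := hxw.trans hwx.symm
  set A := Subgroup.closure ({x, w} : Set G) with hA
  haveI : IsMulCommutative A := Subgroup.isMulCommutative_closure (by
    rintro u (rfl | rfl) v (rfl | rfl)
    · rfl
    · exact hcomm
    · exact hcomm.symm
    · rfl)
  have hAc : ∀ u ∈ A, ∀ v ∈ A, u * v = v * u := fun u hu v hv =>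
    setLike_mul_comm (S := Subgroup G) hu hv
  have hxA : x ∈ A := Subgroup.subset_closure (Or.inl rfl)
  have hwA : w ∈ A := Subgroup.subset_closure (Or.inr rfl)
  have hax : A₀ * x * A₀⁻¹ = w := by rw [hx, hw]; group
  have haw : A₀ * w * A₀⁻¹ = (x * w)⁻¹ := by
    rw [hxw, hw]
    calc A₀ * (b * A₀⁻¹) * A₀⁻¹ = A₀ * b * (A₀⁻¹ * A₀⁻¹) := by group
      _ = A₀ * b * A₀ := by rw [haa]
      _ = _ := by group
  have hconj : ∀ u ∈ A, A₀ * u * A₀⁻¹ ∈ A := by
    intro u hu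
    have hle : A ≤ A.comap (MulAut.conj A₀).toMonoidHom := by
      rw [hA, Subgroup.closure_le]
      rintro v (rfl | rfl) <;>
        simp only [SetLike.mem_coe, Subgroup.mem_comap, MulEquiv.coe_toMonoidHom, MulAut.conj_apply,
          ← hA]
      · rw [hax]; exact hwA
      · rw [haw]; exact inv_mem (mul_mem hxA hwA)
    simpa using hle hu
  have hb_eq : b = A₀ * x := by rw [hx]; group
  by_cases h3 : 3 ∣ Nat.card A
  · haveI : Fact (Nat.Prime 3) := ⟨Nat.prime_three⟩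
    obtain ⟨⟨z, hzA⟩, hz⟩ := exists_prime_orderOf_dvd_card' (G := A) 3 h3
    have hzo : orderOf z = 3 := by rw [← hz, Subgroup.orderOf_mk]
    have hz3 : z ^ 3 = 1 := hzo ▸ pow_orderOf_eq_one z
    have hz1 : z ≠ 1 := fun e => by simp [e] at hzo
    set t : G → G := fun u => A₀ * u * A₀⁻¹ with ht
    have htA : ∀ u ∈ A, t u ∈ A := hconj
    have ht3 : ∀ u, t (t (t u)) = u := by
      intro u
      simp only [ht]
      calc A₀ * (A₀ * (A₀ * u * A₀⁻¹) * A₀⁻¹) * A₀⁻¹
          = A₀ * A₀ * A₀ * u * (A₀ * A₀ * A₀)⁻¹ := by group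
        _ = u := by rw [ha']; group
    have htm : ∀ u v, t (u * v) = t u * t v := fun u v => by simp only [ht]; group
    have htp : ∀ u, u ^ 3 = 1 → t u ^ 3 = 1 := fun u hu => by
      simp only [ht, conj_pow, hu]; group
    obtain ⟨f, hfA, hf1, hf3, hff⟩ : ∃ f ∈ A, f ≠ 1 ∧ f ^ 3 = 1 ∧ t f = f := by
      have h1A := htA z hzA
      have h2A := htA _ h1A
      have cube : ∀ u ∈ A, ∀ v ∈ A, u ^ 3 = 1 → v ^ 3 = 1 → (u * v) ^ 3 = 1 := by
        intro u hu v hv hu3 hv3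
        rw [(show Commute u v from hAc u hu v hv).mul_pow, hu3, hv3, one_mul]
      by_cases hs : t (t z) * t z * z = 1
      · by_cases hv : t z = z
        · exact ⟨z, hzA, hz1, hz3, hv⟩
        · refine ⟨t z * z⁻¹, mul_mem h1A (inv_mem hzA), fun e => hv (mul_inv_eq_one.1 e),
            cube _ h1A _ (inv_mem hzA) (htp z hz3) (by rw [inv_pow, hz3, inv_one]), ?_⟩
          have hti : t z⁻¹ = (t z)⁻¹ := by simp only [ht]; group
          rw [htm, hti]
          have hzz : z⁻¹ * z⁻¹ = z := by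
            rw [← mul_inv_rev]
            exact inv_eq_of_mul_eq_one_left (by rw [← hz3, pow_succ, pow_two]; group)
          have e : t (t z) = z⁻¹ * (t z)⁻¹ := by
            have := mul_eq_one_iff_eq_inv.1 (show t (t z) * (t z * z) = 1 by rw [← mul_assoc]; exact hs)
            rw [this, mul_inv_rev]
          rw [e, mul_assoc, ← mul_inv_rev (t z), ← pow_two]
          have h2 : ((t z) ^ 2)⁻¹ = t z := inv_eq_of_mul_eq_one_left (by
            rw [← pow_succ', htp z hz3])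
          rw [h2, hAc _ (inv_mem hzA) _ h1A]
      · refine ⟨_, mul_mem (mul_mem h2A h1A) hzA, hs,
          cube _ (mul_mem h2A h1A) _ hzA (cube _ h2A _ h1A (htp _ (htp _ hz3)) (htp _ hz3)) hz3, ?_⟩
        rw [htm, htm, ht3]
        rw [hAc z hzA _ h2A, mul_assoc, hAc z hzA _ h1A, ← mul_assoc]
    have hfc : f * A₀ = A₀ * f := by
      simp only [ht] at hff
      calc f * A₀ = A₀ * f * A₀⁻¹ * A₀ := by rw [hff]
        _ = A₀ * f := by group
    obtain ⟨f', rfl⟩ := h.cent a hat ha1 f hfc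
    have hf'3 : f' ^ 3 = 1 := h.inj (by rw [map_pow, hf3, map_one])
    have hf'c : f' * a = a * f' := h.inj (by rw [map_mul, map_mul]; exact hfc)
    have hf't : f' ∈ tr := commute_core ha hf'3 hf'c
    obtain ⟨x', hx'⟩ := h.cent f' hf't (fun e => hf1 (by rw [e, map_one])) x (hAc x hxA _ hfA)
    have hb' : b = φ (a * x') := by rw [map_mul, hx', hb_eq]
    exact ⟨a * x', h.closed y hy gy _ (hgy.trans hb'), hb'.symm⟩
  · exfalso
    set n := Nat.card A with hn
    have hxn : x ^ n = 1 := by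
      have := pow_card_eq_one' (x := (⟨x, hxA⟩ : A))
      exact congrArg Subtype.val this
    have hcop : Nat.Coprime 3 n := (Nat.prime_three.coprime_iff_not_dvd).2 h3
    obtain ⟨k, hk⟩ : ∃ k : ℕ, x ^ (3 * k) = x := by
      have hco : Nat.Coprime 3 (orderOf x) := hcop.coprime_dvd_right (orderOf_dvd_of_pow_eq_one hxn)
      obtain ⟨k, hk⟩ := exists_pow_eq_self_of_coprime hco
      exact ⟨k, by rw [pow_mul]; exact hk⟩
    set u := x ^ (2 * k) * w ^ k with hu
    have huA : u ∈ A := mul_mem (pow_mem hxA _) (pow_mem hwA _)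
    have htu : A₀ * u * A₀⁻¹ = w ^ (2 * k) * ((x * w)⁻¹) ^ k := by
      rw [hu, show A₀ * (x ^ (2 * k) * w ^ k) * A₀⁻¹ = (A₀ * x ^ (2 * k) * A₀⁻¹) * (A₀ * w ^ k * A₀⁻¹) by
        group, ← conj_pow, ← conj_pow, hax, haw]
    have hdiff : A₀ * u * A₀⁻¹ = x⁻¹ * u := by
      have c1 : Commute x w := hcomm
      rw [htu, eq_inv_mul_iff_mul_eq, hu, inv_pow, c1.mul_pow, mul_inv_rev]
      have : x * (w ^ (2 * k) * ((w ^ k)⁻¹ * (x ^ k)⁻¹)) = x * (x ^ k)⁻¹ * w ^ k := by
        rw [← mul_assoc (w ^ (2 * k)), two_mul k, pow_add, mul_inv_cancel_right,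
          ((c1.symm.pow_pow k k).inv_right).eq, mul_assoc x]
      rw [this]
      congr 1
      rw [mul_inv_eq_iff_eq_mul, ← pow_add, show 2 * k + k = 3 * k by ring, hk]
    set v := A₀ * u * A₀⁻¹ with hv
    have hb2 : v * A₀ * v⁻¹ = b := by
      have hvA : v ∈ A := hconj u huA
      have htv : A₀ * v * A₀⁻¹ = w⁻¹ * v := by
        nth_rewrite 1 [hdiff]
        rw [hv, ← hax]; group
      calc v * A₀ * v⁻¹ = v * (A₀ * v * A₀⁻¹)⁻¹ * A₀ := by group
        _ = v * (v⁻¹ * w) * A₀ := by rw [htv, mul_inv_rev, inv_inv]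
        _ = b := by rw [hw]; group
    have hc : IsConj (φ y) (φ a) := hyb.trans (isConj_iff.2 ⟨v⁻¹, by rw [← hb2, hA₀]; group⟩)
    exact hne ((h.isConj_iff_of_inD (inD_core hy hy1)).1 hc)

/-- Two elements of core classes, not all of one class, with product in the core lie in it. -/
theorem core_triple {p q r : K} (hp : p ∈ tr) (hp1 : p ≠ 1) (hq : q ∈ tr) (hq1 : q ≠ 1)
    (hr : r ∈ tr) (hr1 : r ≠ 1) (hne : ¬(cls p = cls q ∧ cls q = cls r)) {X Y : G}
    (hX : IsConj (φ p) X) (hY : IsConj (φ q) Y) (hXY : X * Y = φ r) :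
    (∃ X' ∈ tr, φ X' = X) ∧ ∃ Y' ∈ tr, φ Y' = Y := by
  obtain ⟨g₁, hg₁⟩ := isConj_iff.1 hX
  obtain ⟨g₂, hg₂⟩ := isConj_iff.1 hY
  have hX3 : X ^ 3 = 1 := by rw [← hg₁, conj_pow, ← map_pow, pow_three_eq_one hp, map_one]; group
  have hY3 : Y ^ 3 = 1 := by rw [← hg₂, conj_pow, ← map_pow, pow_three_eq_one hq, map_one]; group
  have hXi : X⁻¹ ^ 3 = 1 := by rw [inv_pow, hX3, inv_one]
  have hYi : Y⁻¹ ^ 3 = 1 := by rw [inv_pow, hY3, inv_one]
  have ofX : (∃ X' ∈ tr, φ X' = X) → (∃ X' ∈ tr, φ X' = X) ∧ ∃ Y' ∈ tr, φ Y' = Y := by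
    rintro ⟨X', hX', rfl⟩
    exact ⟨⟨X', hX', rfl⟩, X'⁻¹ * r, mul_mem (inv_mem hX') hr, by
      rw [map_mul, map_inv, ← hXY, inv_mul_cancel_left]⟩
  have ofY : (∃ Y' ∈ tr, φ Y' = Y) → (∃ X' ∈ tr, φ X' = X) ∧ ∃ Y' ∈ tr, φ Y' = Y := by
    rintro ⟨Y', hY', rfl⟩
    exact ⟨⟨r * Y'⁻¹, mul_mem hr (inv_mem hY'), by
      rw [map_mul, map_inv, ← hXY, mul_inv_cancel_right]⟩, Y', hY', rfl⟩
  have three : ∀ z : K, z ∈ tr → z ≠ 1 → (cls z = 3 ∨ cls z = 4) ∨ cls z = 5 := by
    intro z hz hz1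
    have := cls_mem_core hz hz1
    simp only [List.mem_cons, List.not_mem_nil, or_false] at this
    tauto
  rcases three r hr hr1 with hc | hc
  · have hri : cls r⁻¹ = 3 ∨ cls r⁻¹ = 4 := by rw [cls_inv hr]; exact hc
    by_cases hpr : cls p = cls r
    · refine ofY (h.pair hri hq hq1 hY ?_ ?_)
      · rw [cls_inv hr]; exact fun e => hne ⟨hpr.trans e.symm, e⟩
      · rw [map_inv, ← hXY, mul_inv_rev, show Y⁻¹ * X⁻¹ * Y = Y⁻¹ * X⁻¹ * (Y⁻¹)⁻¹ by rw [inv_inv],
          conj_pow, hXi]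
        group
    · refine ofX (h.pair hri hp hp1 hX (by rw [cls_inv hr]; exact hpr) ?_)
      rw [map_inv, ← hXY, mul_inv_rev, inv_mul_cancel_right, hYi]
  · have hr' : r⁻¹ ∈ tr := inv_mem hr
    have hr1' : r⁻¹ ≠ 1 := inv_ne_one.2 hr1
    have hbconj : ∀ g : G, IsConj (φ r⁻¹) (g⁻¹ * (φ r)⁻¹ * g) := fun g =>
      isConj_iff.2 ⟨g⁻¹, by rw [map_inv, inv_inv]⟩
    have back : ∀ g : G, (∃ b' ∈ tr, φ b' = g⁻¹ * (φ r)⁻¹ * g) → g ∈ φ.range := by
      rintro g ⟨b', hb', e⟩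
      have e' : g * φ b' * g⁻¹ = φ r⁻¹ := by rw [e, map_inv]; group
      have hb1 : b' ≠ 1 := by
        intro he
        rw [he, map_one, mul_one, mul_inv_cancel, ← map_one φ] at e'
        exact hr1' (h.inj e'.symm)
      obtain ⟨k, hk, -⟩ := h.fusion_core hb' hb1 e'
      exact ⟨k, hk⟩
    have inK : ∀ g : G, g ∈ φ.range → ∀ z ∈ tr, ∃ z' ∈ tr, φ z' = g * φ z * g⁻¹ := by
      rintro g ⟨k, rfl⟩ z hz
      exact ⟨k * z * k⁻¹, tr_normal.conj_mem z hz k, by rw [map_mul, map_mul, map_inv]⟩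
    rcases three p hp hp1 with hcp | hcp
    · refine ofX (hg₁ ▸ inK g₁ (back g₁ ?_) p hp)
      refine h.pair hcp hr' hr1' (hbconj g₁) ?_ ?_
      · rw [cls_inv hr, hc]
        rcases hcp with e | e <;> rw [e] <;> decide
      · have e : φ p * (g₁⁻¹ * (φ r)⁻¹ * g₁) = g₁⁻¹ * (X * Y⁻¹ * X⁻¹) * g₁⁻¹⁻¹ := by
          rw [← hXY, mul_inv_rev, ← hg₁]; group
        rw [e, conj_pow, conj_pow, hYi]
        group
    · rcases three q hq hq1 with hcq | hcq
      · refine ofY (hg₂ ▸ inK g₂ (back g₂ ?_) q hq)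
        refine h.pair hcq hr' hr1' (hbconj g₂) ?_ ?_
        · rw [cls_inv hr, hc]
          rcases hcq with e | e <;> rw [e] <;> decide
        · have e : φ q * (g₂⁻¹ * (φ r)⁻¹ * g₂) = g₂⁻¹ * X⁻¹ * g₂⁻¹⁻¹ := by
            rw [← hXY, mul_inv_rev, ← hg₂]; group
          rw [e, conj_pow, hXi]
          group
      · exact absurd ⟨hcp.trans hcq.symm, hcq.trans hc.symm⟩ hne

/-- The number of products in the core. -/
def _root_.CfsgLib.AltNine.coreCount (a b c : Fin 14) : ℕ :=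
  ((Finset.univ : Finset (Fin 27 × Fin 27)).filter fun p => cls ⟨0, p.1⟩ = a ∧ cls ⟨0, p.2⟩ = b ∧
    (⟨0, p.1⟩ : K) * ⟨0, p.2⟩ = rep c).card

theorem card_products {a b c : Fin 14} (ha : a ∈ ([3, 4, 5] : List (Fin 14)))
    (hb : b ∈ ([3, 4, 5] : List (Fin 14))) (hc : c ∈ ([3, 4, 5] : List (Fin 14)))
    (hne : ¬(a = b ∧ b = c)) :
    Nat.card {p : G × G // IsConj (φ (rep a)) p.1 ∧ IsConj (φ (rep b)) p.2 ∧ p.1 * p.2 = φ (rep c)} =
      coreCount a b c := by
  have hD : ∀ d : Fin 14, d ∈ ([3, 4, 5] : List (Fin 14)) → inD d = true := by decide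
  rw [coreCount, ← Fintype.card_coe, ← Nat.card_eq_fintype_card]
  symm
  refine Nat.card_eq_of_bijective (fun p => (⟨(φ ⟨0, p.1.1⟩, φ ⟨0, p.1.2⟩), ?_⟩ :
    {p : G × G // IsConj (φ (rep a)) p.1 ∧ IsConj (φ (rep b)) p.2 ∧ p.1 * p.2 = φ (rep c)})) ⟨?_, ?_⟩
  · obtain ⟨-, h1, h2, h3⟩ := Finset.mem_filter.1 p.2
    refine ⟨?_, ?_, ?_⟩
    · exact (h.isConj_iff_of_inD (by rw [cls_rep]; exact hD a ha)).2 (by rw [cls_rep, h1])
    · exact (h.isConj_iff_of_inD (by rw [cls_rep]; exact hD b hb)).2 (by rw [cls_rep, h2])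
    · rw [← map_mul, h3]
  · rintro ⟨⟨u, v⟩, _⟩ ⟨⟨u', v'⟩, _⟩ e
    simp only [Subtype.mk.injEq, Prod.mk.injEq] at e
    have e1 := congrArg K.v (h.inj e.1)
    have e2 := congrArg K.v (h.inj e.2)
    simp only at e1 e2
    subst e1 e2
    rfl
  · rintro ⟨⟨X, Y⟩, hX, hY, hXY⟩
    obtain ⟨hpt, hp1⟩ := mem_core_of_cls (x := rep a) (by rw [cls_rep]; exact ha)
    obtain ⟨hqt, hq1⟩ := mem_core_of_cls (x := rep b) (by rw [cls_rep]; exact hb)
    obtain ⟨hrt, hr1⟩ := mem_core_of_cls (x := rep c) (by rw [cls_rep]; exact hc)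
    obtain ⟨⟨X', hX', rfl⟩, Y', hY', rfl⟩ := h.core_triple hpt hp1 hqt hq1 hrt hr1
      (by rw [cls_rep, cls_rep, cls_rep]; exact hne) hX hY hXY
    have c1 := (h.isConj_iff_of_inD (by rw [cls_rep]; exact hD a ha)).1 hX
    have c2 := (h.isConj_iff_of_inD (by rw [cls_rep]; exact hD b hb)).1 hY
    rw [cls_rep] at c1 c2
    have c3 : X' * Y' = rep c := h.inj (by rw [map_mul]; exact hXY)
    obtain ⟨aX, u⟩ := X'
    obtain ⟨aY, v⟩ := Y'
    obtain rfl : aX = 0 := hX'
    obtain rfl : aY = 0 := hY'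
    exact ⟨⟨(u, v), Finset.mem_filter.2 ⟨Finset.mem_univ _, c1.symm, c2.symm, c3⟩⟩, rfl⟩

theorem eq_top_or_large : φ.range = ⊤ ∨
    (18144 ≤ Nat.card G ∧ Nat.card G % 17496 = 648) := by
  classical
  haveI := Fintype.ofFinite (G ⧸ φ.range)
  have hG : Nat.card G = 648 * φ.range.index := by
    rw [← Subgroup.card_mul_index φ.range, ← Nat.card_congr (MonoidHom.ofInjective h.inj).toEquiv,
      Nat.card_eq_fintype_card, card_K]
  -- the core acts freely away from the trivial coset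
  let ψ : tr →* G := φ.comp tr.subtype
  let _ : MulAction tr (G ⧸ φ.range) := MulAction.compHom _ ψ
  have hfix : ∀ j : tr, j ≠ 1 → ∀ q : G ⧸ φ.range, j • q = q → q = ((1 : G) : G ⧸ φ.range) := by
    intro j hj q
    induction q using QuotientGroup.induction_on with
    | _ g =>
      intro e
      change ((φ j * g : G) : G ⧸ φ.range) = g at e
      rw [QuotientGroup.eq] at e
      obtain ⟨k, hk⟩ := e
      have hk' : g⁻¹ * φ j * g⁻¹⁻¹ = φ k⁻¹ := by rw [map_inv, hk]; group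
      obtain ⟨m, hm, -⟩ := h.fusion_core j.2 (fun e => hj (Subtype.ext e)) hk'
      rw [eq_comm, QuotientGroup.eq, inv_one, one_mul]
      exact ⟨m⁻¹, by rw [map_inv, hm, inv_inv]⟩
  have hburn := MulAction.sum_card_fixedBy_eq_card_orbits_mul_card_group tr (G ⧸ φ.range)
  have htr : Fintype.card tr = 27 := by
    rw [← Nat.card_eq_fintype_card, Nat.card_congr (show tr ≃ Fin 27 from
      { toFun := fun x => x.1.v
        invFun := fun v => ⟨⟨0, v⟩, rfl⟩
        left_inv := fun x => Subtype.ext (by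
          obtain ⟨⟨a, v⟩, hx⟩ := x
          obtain rfl : a = 0 := hx
          rfl)
        right_inv := fun _ => rfl }), Nat.card_fin]
  have hsum : ∑ j : tr, Fintype.card (MulAction.fixedBy (G ⧸ φ.range) j) =
      φ.range.index + 26 := by
    rw [← Finset.add_sum_erase Finset.univ _ (Finset.mem_univ (1 : tr))]
    refine congrArg₂ (· + ·) ?_ ?_
    · rw [Subgroup.index, Nat.card_eq_fintype_card]
      refine Fintype.card_congr (Equiv.subtypeUnivEquiv fun q => ?_)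
      exact one_smul _ q
    · rw [Finset.sum_congr rfl (g := fun _ => 1) fun j hj => ?_, Finset.sum_const,
        Finset.card_erase_of_mem (Finset.mem_univ _), Finset.card_univ, htr, smul_eq_mul, mul_one]
      rw [Fintype.card_eq_one_iff]
      refine ⟨⟨((1 : G) : G ⧸ φ.range), ?_⟩, fun q => Subtype.ext
        (hfix j (Finset.ne_of_mem_erase hj) q.1 q.2)⟩
      change ((φ j * 1 : G) : G ⧸ φ.range) = ((1 : G) : G ⧸ φ.range)
      rw [mul_one, QuotientGroup.eq]
      exact inv_mem_iff.1 (by simp)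
  rw [hsum, htr] at hburn
  by_cases hi : φ.range.index = 1
  · exact Or.inl (Subgroup.index_eq_one.1 hi)
  · right
    have := Nat.card_pos (α := G)
    omega

end Hyp

end CfsgLib.AltNine
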