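import Cfsg.Agent.AltNine.Chars

/-!
# The subgroup is the whole group
-/

set_option autoImplicit false
set_option linter.style.haveILetI false

namespace CfsgLib.AltNine

/-- The image of the `3`-core of the model under an isomorphism. -/
theorem map_tr_eq {A : Type*} [Group A] (e : K ≃* A) :
    tr.map e.toMonoidHom = Cfsg.pCore 3 A := by
  rw [← pCore_eq]
  refine le_antisymm ?_ fun x hx => ⟨e.symm x, ?_, e.apply_symm_apply x⟩
  · rw [Subgroup.map_le_iff_le_comap]
    refine sSup_le fun N hN => Subgroup.map_le_iff_le_comap.mp (le_sSup ⟨?_, hN.2.map _⟩)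
    exact hN.1.map _ e.surjective
  · have h2 : (Cfsg.pCore 3 A).map e.symm.toMonoidHom ≤ Cfsg.pCore 3 K := by
      rw [Subgroup.map_le_iff_le_comap]
      refine sSup_le fun N hN => Subgroup.map_le_iff_le_comap.mp (le_sSup ⟨?_, hN.2.map _⟩)
      exact hN.1.map _ e.symm.surjective
    exact h2 ⟨x, hx, rfl⟩

/-- A group with such a subgroup equals it. -/
theorem eq_top_of_core {G : Type*} [Group G] [Finite G] (H : Subgroup G)
    (hH : Nonempty (↥H ≃* ↥(Subgroup.closure genSet))) (J : Subgroup G)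
    (hJ : J = (Cfsg.pCore 3 ↥H).map H.subtype)
    (hC : ∀ j ∈ J, j ≠ 1 → Subgroup.centralizer ({j} : Set G) ≤ H)
    (hclosed : ∀ x ∈ J, ∀ g : G, g * x * g⁻¹ ∈ H → g * x * g⁻¹ ∈ J) : H = ⊤ := by
  classical
  haveI := Fintype.ofFinite G
  obtain ⟨e₀⟩ := hH
  let e : K ≃* H := equivClosure.trans e₀.symm
  let φ : K →* G := H.subtype.comp e.toMonoidHom
  have hJ' : ∀ g : G, g ∈ J ↔ ∃ x ∈ tr, φ x = g := by
    intro g
    rw [hJ, ← map_tr_eq e, Subgroup.map_map]
    rfl
  have hrange : φ.range = H := by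
    ext g
    constructor
    · rintro ⟨x, rfl⟩; exact (e x).2
    · exact fun hg => ⟨e.symm ⟨g, hg⟩, by simp [φ]⟩
  have hinj : Function.Injective φ := fun a b hab => e.injective (Subtype.ext hab)
  have hyp : Hyp φ := by
    refine ⟨hinj, ?_, ?_⟩
    · intro x hx hx1 g hg
      rw [hrange]
      exact hC (φ x) ((hJ' _).2 ⟨x, hx, rfl⟩)
        (fun h => hx1 (hinj (h.trans (map_one φ).symm)))
        (Subgroup.mem_centralizer_singleton_iff.2 hg)
    · intro x hx g y hy
      have hm : g * φ x * g⁻¹ ∈ H := by rw [hy]; exact (e y).2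
      obtain ⟨y', hy', he⟩ := (hJ' _).1 (hclosed _ ((hJ' _).2 ⟨x, hx, rfl⟩) g hm)
      exact hinj (he.trans hy) ▸ hy'
  rw [← hrange]
  exact range_eq_top hyp

end CfsgLib.AltNine
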