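import Cfsg.Agent.AltNine.Tables
import Cfsg.Prelude.Def_Solvable
import Mathlib.GroupTheory.Perm.Basic
import Mathlib.Data.Fintype.Prod

/-!
# A model of the normalizer of the elementary abelian `3^3` in the alternating group of degree nine

An element is a pair of a signed block permutation (one of 24) and a translation in `(ZMod 3)^3`.
-/

set_option autoImplicit false
set_option maxRecDepth 100000

namespace CfsgLib.AltNine

/-- Reading a packed table. -/
def get (t w k : ℕ) : ℕ := (t >>> (w * k)) % 2 ^ w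

/-- The model. -/
@[ext] structure K where
  /-- the signed block permutation -/
  h : Fin 24
  /-- the translation -/
  v : Fin 27
  deriving DecidableEq

/-- `K` as a product. -/
def K.equivProd : K ≃ Fin 24 × Fin 27 where
  toFun x := (x.h, x.v)
  invFun p := ⟨p.1, p.2⟩
  left_inv _ := rfl
  right_inv _ := rfl

instance : Fintype K := Fintype.ofEquiv _ K.equivProd.symm

/-- Products of signed block permutations. -/
def mh (a b : Fin 24) : Fin 24 := ⟨get mulTab 5 (24 * a + b) % 24, Nat.mod_lt _ (by decide)⟩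

/-- Inverses of signed block permutations. -/
def ih (a : Fin 24) : Fin 24 := ⟨get invTab 5 a % 24, Nat.mod_lt _ (by decide)⟩

/-- The action on translations. -/
def act (a : Fin 24) (v : Fin 27) : Fin 27 :=
  ⟨get actTab 5 (27 * a + v) % 27, Nat.mod_lt _ (by decide)⟩

/-- Sums of translations. -/
def av (u v : Fin 27) : Fin 27 := ⟨get addTab 5 (27 * u + v) % 27, Nat.mod_lt _ (by decide)⟩

/-- Negatives of translations. -/
def nv (v : Fin 27) : Fin 27 := ⟨get negTab 5 v % 27, Nat.mod_lt _ (by decide)⟩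

theorem mh_assoc : ∀ a b c, mh (mh a b) c = mh a (mh b c) := by decide +kernel
theorem mh_one : ∀ a, mh 0 a = a ∧ mh a 0 = a ∧ mh (ih a) a = 0 := by decide +kernel
theorem av_assoc : ∀ u v w, av (av u v) w = av u (av v w) := by decide +kernel
theorem av_zero : ∀ u, av 0 u = u ∧ av u 0 = u ∧ av (nv u) u = 0 := by decide +kernel
theorem act_mh : ∀ a b v, act (mh a b) v = act b (act a v) := by decide +kernel
theorem act_av : ∀ a u v, act a (av u v) = av (act a u) (act a v) := by decide +kernel
theorem act_one : ∀ v, act 0 v = v ∧ ∀ a, act a 0 = 0 := by decide +kernel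

instance : One K := ⟨⟨0, 0⟩⟩
instance : Mul K := ⟨fun x y => ⟨mh x.h y.h, av (act y.h x.v) y.v⟩⟩
instance : Inv K := ⟨fun x => ⟨ih x.h, nv (act (ih x.h) x.v)⟩⟩

theorem mul_def (x y : K) : x * y = ⟨mh x.h y.h, av (act y.h x.v) y.v⟩ := rfl
theorem one_def : (1 : K) = ⟨0, 0⟩ := rfl
theorem inv_def (x : K) : x⁻¹ = ⟨ih x.h, nv (act (ih x.h) x.v)⟩ := rfl

instance : Group K where
  mul_assoc x y z := by
    simp only [mul_def, K.mk.injEq]
    exact ⟨mh_assoc _ _ _, by rw [act_av, av_assoc, act_mh]⟩
  one_mul x := by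
    simp only [mul_def, one_def]
    ext <;> simp [(mh_one x.h).1, (act_one 0).2, (av_zero x.v).1]
  mul_one x := by
    simp only [mul_def, one_def]
    ext <;> simp [(mh_one x.h).2.1, (act_one x.v).1, (av_zero x.v).2.1]
  inv_mul_cancel x := by
    simp only [mul_def, inv_def, one_def, K.mk.injEq]
    refine ⟨(mh_one x.h).2.2, ?_⟩
    have h1 : act x.h (nv (act (ih x.h) x.v)) = nv x.v := by
      have hz := congrArg (act x.h) ((av_zero (act (ih x.h) x.v)).2.2)
      rw [act_av, (act_one 0).2, ← act_mh, (mh_one x.h).2.2, (act_one x.v).1] at hz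
      have := congrArg (fun t => av t (nv x.v)) hz
      simp only [av_assoc, (av_zero (nv x.v)).1] at this
      have hr : ∀ t, av t (nv t) = 0 := by decide +kernel
      rwa [hr, (av_zero _).2.1] at this
    rw [h1]
    exact (av_zero x.v).2.2

theorem card_K : Fintype.card K = 648 := by rw [Fintype.card_congr K.equivProd]; rfl

/-- The code of an element. -/
def K.code (x : K) : ℕ := 27 * x.h + x.v

/-- The element with a given code. -/
def ofCode (n : ℕ) : K := ⟨⟨n / 27 % 24, Nat.mod_lt _ (by decide)⟩, ⟨n % 27, Nat.mod_lt _ (by decide)⟩⟩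

/-- A statement about all elements, checked on pairs. -/
theorem forall_K {P : K → Prop} (h : ∀ a : Fin 24, ∀ v : Fin 27, P ⟨a, v⟩) : ∀ x, P x :=
  fun x => h x.h x.v

/-! ### The permutation representation -/

/-- Linear part of the action on points. -/
def lin (a : Fin 24) (i : Fin 9) : Fin 9 := ⟨get pointTab 4 (9 * a + i) % 9, Nat.mod_lt _ (by decide)⟩

/-- Translation part of the action on points. -/
def shift (v : Fin 27) (i : Fin 9) : Fin 9 :=
  ⟨3 * (i.1 / 3) + (i.1 % 3 + v.1 / 3 ^ (i.1 / 3)) % 3, by have := i.2; omega⟩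

theorem lin_mh : ∀ a b i, lin (mh a b) i = lin a (lin b i) := by decide +kernel
theorem shift_av : ∀ u v i, shift (av u v) i = shift u (shift v i) := by decide +kernel
theorem shift_act : ∀ b u i, shift u (lin b i) = lin b (shift (act b u) i) := by decide +kernel
theorem lin_one : ∀ i, lin 0 i = i ∧ shift 0 i = i := by decide +kernel

/-- The action on nine points. -/
def pt (x : K) (i : Fin 9) : Fin 9 := lin x.h (shift x.v i)

theorem pt_mul (x y : K) (i : Fin 9) : pt (x * y) i = pt x (pt y i) := by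
  simp only [pt, mul_def]
  rw [lin_mh, shift_av, shift_act]

theorem pt_one (i : Fin 9) : pt 1 i = i := by
  simp only [pt, one_def, (lin_one i).2, (lin_one i).1]

/-- The representation by permutations. -/
def toPerm : K →* Equiv.Perm (Fin 9) where
  toFun x :=
    { toFun := pt x
      invFun := pt x⁻¹
      left_inv := fun i => by rw [← pt_mul, inv_mul_cancel, pt_one]
      right_inv := fun i => by rw [← pt_mul, mul_inv_cancel, pt_one] }
  map_one' := Equiv.ext pt_one
  map_mul' x y := Equiv.ext fun i => pt_mul x y i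

theorem toPerm_apply (x : K) (i : Fin 9) : toPerm x i = pt x i := rfl

theorem pt_faithful : ∀ a : Fin 24, ∀ v : Fin 27,
    (∀ i, pt ⟨a, v⟩ i = i) → (⟨a, v⟩ : K) = 1 := by decide +kernel

theorem toPerm_injective : Function.Injective toPerm := by
  refine (injective_iff_map_eq_one toPerm).2 fun x hx => ?_
  exact forall_K (P := fun y => (∀ i, pt y i = i) → y = 1) pt_faithful x fun i => by
    rw [← toPerm_apply, hx]; rfl

/-- The four generators. -/
def gen (k : Fin 4) : K := ofCode (genList.getD k 0)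

/-- Parent in the Cayley tree. -/
def par (x : K) : K := ofCode (get parTab 10 x.code)

theorem par_spec : ∀ a : Fin 24, ∀ v : Fin 27, (⟨a, v⟩ : K) = 1 ∨
    (get depTab 6 (par ⟨a, v⟩).code < get depTab 6 (K.code ⟨a, v⟩) ∧
      ∃ k : Fin 4, (⟨a, v⟩ : K) = par ⟨a, v⟩ * gen k) := by decide +kernel

theorem mem_of_gen {S : Subgroup K} (hS : ∀ k, gen k ∈ S) (x : K) : x ∈ S := by
  induction hn : get depTab 6 x.code using Nat.strong_induction_on generalizing x with
  | _ n ih =>
    rcases forall_K (P := fun y => y = 1 ∨ (get depTab 6 (par y).code < get depTab 6 y.code ∧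
        ∃ k : Fin 4, y = par y * gen k)) par_spec x with h | ⟨hlt, k, hk⟩
    · exact h ▸ S.one_mem
    · rw [hk]
      exact S.mul_mem (ih _ (hn ▸ hlt) _ rfl) (hS k)

/-- The subgroup of the statement. -/
def genSet : Set (Equiv.Perm (Fin 9)) :=
  {Equiv.swap (0 : Fin 9) 1 * Equiv.swap 1 2,
    Equiv.swap (0 : Fin 9) 3 * Equiv.swap 3 6 * (Equiv.swap (1 : Fin 9) 4 * Equiv.swap 4 7) *
      (Equiv.swap (2 : Fin 9) 5 * Equiv.swap 5 8),
    Equiv.swap (0 : Fin 9) 1 * Equiv.swap 3 4,
    Equiv.swap (0 : Fin 9) 3 * Equiv.swap 1 4 * Equiv.swap 2 5 * Equiv.swap 6 7}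

theorem toPerm_gen :
    (∀ i, pt (gen 0) i = (Equiv.swap (0 : Fin 9) 1 * Equiv.swap 1 2 : Equiv.Perm (Fin 9)) i) ∧
    (∀ i, pt (gen 1) i = (Equiv.swap (0 : Fin 9) 3 * Equiv.swap 3 6 *
      (Equiv.swap (1 : Fin 9) 4 * Equiv.swap 4 7) * (Equiv.swap (2 : Fin 9) 5 * Equiv.swap 5 8) : Equiv.Perm (Fin 9)) i) ∧
    (∀ i, pt (gen 2) i = (Equiv.swap (0 : Fin 9) 1 * Equiv.swap 3 4 : Equiv.Perm (Fin 9)) i) ∧
    (∀ i, pt (gen 3) i = (Equiv.swap (0 : Fin 9) 3 * Equiv.swap 1 4 * Equiv.swap 2 5 * Equiv.swap 6 7 :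
      Equiv.Perm (Fin 9)) i) := by
  decide +kernel

theorem range_toPerm : toPerm.range = Subgroup.closure genSet := by
  apply le_antisymm
  · rintro _ ⟨x, rfl⟩
    have hx : x ∈ (Subgroup.closure genSet).comap toPerm := by
      refine mem_of_gen (fun k => ?_) x
      rw [Subgroup.mem_comap]
      obtain ⟨h0, h1, h2, h3⟩ := toPerm_gen
      apply Subgroup.subset_closure
      fin_cases k
      · exact Or.inl (Equiv.ext h0)
      · exact Or.inr (Or.inl (Equiv.ext h1))
      · exact Or.inr (Or.inr (Or.inl (Equiv.ext h2)))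
      · exact Or.inr (Or.inr (Or.inr (Equiv.ext h3)))
    exact hx
  · rw [Subgroup.closure_le]
    obtain ⟨h0, h1, h2, h3⟩ := toPerm_gen
    rintro _ (rfl | rfl | rfl | rfl)
    · exact ⟨gen 0, Equiv.ext h0⟩
    · exact ⟨gen 1, Equiv.ext h1⟩
    · exact ⟨gen 2, Equiv.ext h2⟩
    · exact ⟨gen 3, Equiv.ext h3⟩

/-- The model is isomorphic to the group of the statement. -/
noncomputable def equivClosure : K ≃* Subgroup.closure genSet :=
  (MonoidHom.ofInjective toPerm_injective).trans (MulEquiv.subgroupCongr range_toPerm)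

end CfsgLib.AltNine
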