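import Cfsg.Agent.AltNine.Classes
import Cfsg.Agent.Char.Generalized
import Cfsg.Agent.Char.Induction

/-!
# The exceptional generalized characters of the model

Fifteen characters induced from linear characters give nine generalized characters vanishing off
the classes with a non-trivial power in the translations.  Values lie in `ℤ[ζ₁₂]`.
-/

set_option autoImplicit false
set_option maxRecDepth 100000
set_option linter.style.haveILetI false
set_option linter.style.longLine false

namespace CfsgLib.AltNine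

open scoped ComplexConjugate

/-- The head groups of fifteen induced linear characters, as bit masks. -/
def headTab : List ℕ := [16777215, 16777215, 1044495, 3855, 3855, 51, 51, 51, 51, 69633, 69633, 69633, 65, 65, 1]

/-- Their linear forms on the translations. -/
def formTab : List ℕ := [0, 0, 0, 0, 0, 1, 1, 1, 1, 13, 13, 13, 12, 12, 0]

/-- Their exponents on the head groups, packed. -/
def etaTab : List ℕ :=
  [0, 31690781435378001775738355712, 644755517920989243506688, 7009386628704, 105578886071904, 0, 6684672, 9633888, 3735648, 0, 73789228094651891712, 147575078489583255552, 0, 100663296, 0]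

/-- Transversals of the head groups. -/
def tvTab : List (List (Fin 24)) :=
  [[0], [0], [0, 4], [0, 4, 12], [0, 4, 12], [0, 2, 8, 10, 16, 18], [0, 2, 8, 10, 16, 18], [0, 2, 8, 10, 16, 18], [0, 2, 8, 10, 16, 18], [0, 1, 2, 3, 4, 5, 6, 7], [0, 1, 2, 3, 4, 5, 6, 7], [0, 1, 2, 3, 4, 5, 6, 7], [0, 1, 2, 3, 8, 9, 10, 11, 16, 17, 18, 19], [0, 1, 2, 3, 8, 9, 10, 11, 16, 17, 18, 19], [0, 1, 2, 3, 4, 5, 6, 7, 8, 9, 10, 11, 12, 13, 14, 15, 16, 17, 18, 19, 20, 21, 22, 23]]

/-- The nine exceptional generalized characters in terms of the first fourteen. -/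
def basisTab : List (List ℤ) :=
  [[0, 0, 0, 0, 0, 0, 0, 1, -1, 0, 0, 0, 0, 0], [0, 0, 0, 0, 0, 0, 0, 0, 0, 0, 1, -1, 0, 0], [0, 0, 1, 0, 0, 0, 0, 1, 0, 0, -1, 0, 0, 0], [0, 0, 0, 1, 1, 0, 0, -1, 0, 0, 0, 0, 0, 0], [1, 1, 0, 0, 0, 0, 0, 1, 0, -1, 0, 0, 0, 0], [1, 0, 1, 0, 1, -1, 0, 0, 0, 0, 0, 0, 0, 0], [1, 0, 0, 1, 0, 0, 0, 0, 0, 0, 1, 0, -1, 0], [0, 1, 1, 1, 0, 0, -1, 0, 0, 0, 0, 0, 0, 0], [0, 1, 0, 0, 1, 0, 0, 0, 0, 0, 1, 0, 0, -1]]

/-- Coefficients on `1, ζ, ζ², ζ³`. -/
@[ext] structure Z12 where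
  /-- constant coefficient -/
  a : ℤ
  /-- coefficient of `ζ` -/
  b : ℤ
  /-- coefficient of `ζ²` -/
  c : ℤ
  /-- coefficient of `ζ³` -/
  d : ℤ
  deriving DecidableEq

namespace Z12

/-- Sum. -/
def add (x y : Z12) : Z12 := ⟨x.a + y.a, x.b + y.b, x.c + y.c, x.d + y.d⟩
/-- Integer multiple. -/
def smul (n : ℤ) (x : Z12) : Z12 := ⟨n * x.a, n * x.b, n * x.c, n * x.d⟩
/-- An integer. -/
def ofInt (n : ℤ) : Z12 := ⟨n, 0, 0, 0⟩
/-- Product, using `ζ⁴ = ζ² - 1`. -/
def mul (x y : Z12) : Z12 :=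
  ⟨x.a * y.a - (x.b * y.d + x.c * y.c + x.d * y.b) - x.d * y.d,
    x.a * y.b + x.b * y.a - (x.c * y.d + x.d * y.c),
    x.a * y.c + x.b * y.b + x.c * y.a + (x.b * y.d + x.c * y.c + x.d * y.b),
    x.a * y.d + x.b * y.c + x.c * y.b + x.d * y.a + (x.c * y.d + x.d * y.c)⟩
/-- Complex conjugate. -/
def star' (x : Z12) : Z12 := ⟨x.a + x.c, x.b, -x.c, -x.b - x.d⟩
/-- Multiplication by `ζ`. -/
def mulZeta (x : Z12) : Z12 := ⟨-x.d, x.a, x.b + x.d, x.c⟩
/-- A power of `ζ`. -/
def zetaPow : ℕ → Z12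
  | 0 => ⟨1, 0, 0, 0⟩
  | n + 1 => mulZeta (zetaPow n)
/-- Sum of a list. -/
def sumL : List Z12 → Z12
  | [] => ⟨0, 0, 0, 0⟩
  | x :: l => add x (sumL l)

/-- The primitive twelfth root of unity. -/
noncomputable def zeta : ℂ := (((Real.sqrt 3 : ℝ) : ℂ) + Complex.I) / 2

theorem sqrt_three_sq : ((Real.sqrt 3 : ℝ) : ℂ) ^ 2 = 3 := by
  rw [← Complex.ofReal_pow, Real.sq_sqrt (by norm_num)]
  norm_num

theorem zeta_sq : zeta ^ 2 = (1 + ((Real.sqrt 3 : ℝ) : ℂ) * Complex.I) / 2 := by
  rw [zeta]; linear_combination (sqrt_three_sq + Complex.I_sq) / 4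

theorem zeta_cube : zeta ^ 3 = Complex.I := by
  rw [pow_succ, zeta_sq, zeta]
  linear_combination (Complex.I * sqrt_three_sq + ((Real.sqrt 3 : ℝ) : ℂ) * Complex.I_sq) / 4

theorem zeta_four : zeta ^ 4 = zeta ^ 2 - 1 := by
  rw [show zeta ^ 4 = zeta ^ 3 * zeta by ring, zeta_cube, zeta_sq, zeta]
  linear_combination Complex.I_sq / 2

theorem zeta_pow_twelve : zeta ^ 12 = 1 := by
  rw [show zeta ^ 12 = (zeta ^ 3) ^ 4 by ring, zeta_cube, Complex.I_pow_four]

theorem conj_zeta : conj zeta = zeta - zeta ^ 3 := by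
  rw [zeta_cube, zeta, map_div₀, map_add, Complex.conj_ofReal, Complex.conj_I, map_ofNat]
  ring

/-- The complex number. -/
noncomputable def toC (x : Z12) : ℂ := x.a + x.b * zeta + x.c * zeta ^ 2 + x.d * zeta ^ 3

theorem toC_ofInt (n : ℤ) : toC (ofInt n) = n := by simp [toC, ofInt]

theorem toC_add (x y : Z12) : toC (add x y) = toC x + toC y := by
  simp only [toC, add, Int.cast_add]; ring

theorem toC_smul (n : ℤ) (x : Z12) : toC (smul n x) = n * toC x := by
  simp only [toC, smul, Int.cast_mul]; ring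

theorem toC_mulZeta (x : Z12) : toC (mulZeta x) = toC x * zeta := by
  simp only [toC, mulZeta, Int.cast_add, Int.cast_neg]
  linear_combination -(x.d : ℂ) * zeta_four

theorem toC_zetaPow : ∀ n, toC (zetaPow n) = zeta ^ n
  | 0 => by simp [toC, zetaPow]
  | n + 1 => by rw [zetaPow, toC_mulZeta, toC_zetaPow n, pow_succ]

theorem toC_mul (x y : Z12) : toC (mul x y) = toC x * toC y := by
  simp only [toC, mul, Int.cast_add, Int.cast_sub, Int.cast_mul]
  linear_combination (-((x.b : ℂ) * y.d + x.c * y.c + x.d * y.b)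
    - ((x.c : ℂ) * y.d + x.d * y.c) * zeta - (x.d : ℂ) * y.d * (zeta ^ 2 + 1)) * zeta_four

theorem toC_star (x : Z12) : toC (star' x) = conj (toC x) := by
  simp only [toC, map_add, map_mul, map_pow, map_intCast, conj_zeta, star', Int.cast_add,
    Int.cast_neg, Int.cast_sub]
  linear_combination (-(x.c : ℂ) * (zeta ^ 2 - 1) + (x.d : ℂ) * (zeta ^ 5 - 2 * zeta ^ 3)) * zeta_four

theorem toC_sumL : ∀ l : List Z12, toC (sumL l) = (l.map toC).sum
  | [] => by simp [toC, sumL]
  | x :: l => by rw [sumL, toC_add, toC_sumL l, List.map_cons, List.sum_cons]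

theorem sum_toC {n : ℕ} (f : Fin n → Z12) :
    ∑ i, toC (f i) = toC (sumL ((List.finRange n).map f)) := by
  rw [toC_sumL, List.map_map, Fin.sum_univ_def]
  rfl

end Z12

/-- Membership in a head group. -/
def inHead (i : Fin 15) (a : Fin 24) : Bool := Nat.testBit (headTab.getD i 0) a

/-- A linear form on the translations. -/
def form (i : Fin 15) (v : Fin 27) : ℕ :=
  let c := formTab.getD i 0
  ((c % 3) * (v % 3) + (c / 3 % 3) * (v / 3 % 3) + (c / 9) * (v / 9)) % 3

/-- The exponent of a linear character. -/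
def expAt (i : Fin 15) (x : K) : ℕ := (get (etaTab.getD i 0) 4 x.h + 4 * form i x.v) % 12

/-- The transversal. -/
def tvOf (i : Fin 15) : List (Fin 24) := tvTab.getD i []

theorem head_zero : ∀ i, inHead i 0 = true ∧ expAt i 1 = 0 := by decide +kernel

theorem head_mul : ∀ i, ∀ a b : Fin 24, inHead i a = true → inHead i b = true →
    inHead i (mh a b) = true ∧
      (get (etaTab.getD i 0) 4 (mh a b)) % 12 = (get (etaTab.getD i 0) 4 a + get (etaTab.getD i 0) 4 b) % 12 := by
  decide +kernel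

theorem head_inv : ∀ i, ∀ a : Fin 24, inHead i a = true → inHead i (ih a) = true := by decide +kernel

theorem form_act : ∀ i, ∀ a : Fin 24, inHead i a = true → ∀ v, form i (act a v) = form i v := by
  decide +kernel

theorem form_av : ∀ i, ∀ u v, form i (av u v) = (form i u + form i v) % 3 := by decide +kernel

theorem tv_spec : ∀ i, ∀ a : Fin 24,
    ((tvOf i).filter fun t => inHead i (mh (ih t) a)).length = 1 := by decide +kernel

theorem tv_count : ∀ i, ∀ t ∈ tvOf i,
    ((Finset.univ : Finset (Fin 24)).filter fun a => inHead i (mh (ih t) a) = true).card =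
      ((Finset.univ : Finset (Fin 24)).filter fun a => inHead i a = true).card := by decide +kernel

theorem tv_nodup : ∀ i, (tvOf i).Nodup := by decide +kernel

/-- The subgroups of the linear characters. -/
def head (i : Fin 15) : Subgroup K where
  carrier := {x | inHead i x.h = true}
  one_mem' := (head_zero i).1
  mul_mem' {x y} hx hy := (head_mul i x.h y.h hx hy).1
  inv_mem' {x} hx := head_inv i x.h hx

theorem mem_head {i : Fin 15} {x : K} : x ∈ head i ↔ inHead i x.h = true := Iff.rfl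

theorem expAt_mul (i : Fin 15) {x y : K} (hx : x ∈ head i) (hy : y ∈ head i) :
    expAt i (x * y) = (expAt i x + expAt i y) % 12 := by
  simp only [expAt, mul_def, form_av, form_act i y.h hy]
  have := (head_mul i x.h y.h hx hy).2
  omega

/-- The linear characters. -/
noncomputable def lam (i : Fin 15) : head i →* ℂˣ where
  toFun x := Units.mk0 (Z12.zeta ^ expAt i (x : K))
    (pow_ne_zero _ fun h => by simpa [h] using Z12.zeta_pow_twelve)
  map_one' := Units.ext (by simp [(head_zero i).2])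
  map_mul' x y := Units.ext (by
    simp only [Units.val_mul, Units.val_mk0, ← pow_add, Subgroup.coe_mul, expAt_mul i x.2 y.2]
    exact (pow_eq_pow_mod _ Z12.zeta_pow_twelve).symm)

/-- The induced characters. -/
noncomputable def theta (i : Fin 15) : K → ℂ :=
  Cfsg.indFun (head i) fun x => ((lam i x : ℂˣ) : ℂ)

theorem isCharacter_theta (i : Fin 15) : Cfsg.IsCharacter K (theta i) :=
  CfsgLib.Char.IsCharacter.indFun (CfsgLib.Char.isCharacter_ofHom (lam i))

/-- The summand of an induced value. -/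
def term (i : Fin 15) (g : K) (t : Fin 24) : Z12 :=
  let y : K := (⟨t, 0⟩ : K)⁻¹ * g * ⟨t, 0⟩
  if inHead i y.h then Z12.zetaPow (expAt i y) else Z12.ofInt 0

/-- The value of an induced character. -/
def thetaVal (i : Fin 15) (g : K) : Z12 := Z12.sumL ((tvOf i).map (term i g))

theorem extend_coset (i : Fin 15) (g : K) {x e : K} (he : e ∈ head i) :
    Cfsg.extendByZero (head i) (fun x => ((lam i x : ℂˣ) : ℂ)) ((x * e)⁻¹ * g * (x * e)) =
      Cfsg.extendByZero (head i) (fun x => ((lam i x : ℂˣ) : ℂ)) (x⁻¹ * g * x) := by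
  have hy : (x * e)⁻¹ * g * (x * e) = e⁻¹ * (x⁻¹ * g * x) * e := by group
  by_cases hm : x⁻¹ * g * x ∈ head i
  · have hm' : (x * e)⁻¹ * g * (x * e) ∈ head i :=
      hy ▸ mul_mem (mul_mem (inv_mem he) hm) he
    rw [CfsgLib.Char.extendByZero_of_mem _ hm', CfsgLib.Char.extendByZero_of_mem _ hm]
    have : (⟨_, hm'⟩ : head i) = (⟨e, he⟩ : head i)⁻¹ * ⟨_, hm⟩ * ⟨e, he⟩ := Subtype.ext hy
    rw [this, map_mul, map_mul, map_inv, mul_right_comm, inv_mul_cancel, one_mul]
  · have hm' : (x * e)⁻¹ * g * (x * e) ∉ head i := fun h => hm (by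
      have := mul_mem (mul_mem he h) (inv_mem he)
      rwa [hy, show e * (e⁻¹ * (x⁻¹ * g * x) * e) * e⁻¹ = x⁻¹ * g * x by group] at this)
    rw [CfsgLib.Char.extendByZero_of_not_mem _ hm', CfsgLib.Char.extendByZero_of_not_mem _ hm]

theorem extend_term (i : Fin 15) (g : K) (t : Fin 24) :
    Cfsg.extendByZero (head i) (fun x => ((lam i x : ℂˣ) : ℂ))
      ((⟨t, 0⟩ : K)⁻¹ * g * ⟨t, 0⟩) = Z12.toC (term i g t) := by
  simp only [term]
  split_ifs with h
  · rw [CfsgLib.Char.extendByZero_of_mem _ (mem_head.2 h), Z12.toC_zetaPow]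
    rfl
  · rw [CfsgLib.Char.extendByZero_of_not_mem _ (fun hm => h (mem_head.1 hm)), Z12.toC_ofInt]
    simp

theorem card_head (i : Fin 15) : Nat.card (head i) =
    27 * ((Finset.univ : Finset (Fin 24)).filter fun a => inHead i a = true).card := by
  have e : head i ≃ {a : Fin 24 // inHead i a = true} × Fin 27 :=
    { toFun := fun x => (⟨(x : K).h, x.2⟩, (x : K).v)
      invFun := fun p => ⟨⟨p.1.1, p.2⟩, p.1.2⟩
      left_inv := fun _ => rfl
      right_inv := fun _ => rfl }
  rw [Nat.card_congr e, Nat.card_prod, Nat.card_eq_fintype_card, Fintype.card_subtype,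
    Nat.card_fin, mul_comm]

theorem theta_eq (i : Fin 15) (g : K) : theta i g = Z12.toC (thetaVal i g) := by
  classical
  set G' : Fin 24 → ℂ := fun t => Z12.toC (term i g t) with hG
  set S : ℕ := ((Finset.univ : Finset (Fin 24)).filter fun a => inHead i a = true).card with hS
  have hSpos : 0 < S := Finset.card_pos.2 ⟨0, by simp [(head_zero i).1]⟩
  have hnd : (tvOf i).Nodup := tv_nodup i
  have hsum : ∀ a : Fin 24, ∀ v : Fin 27,
      Cfsg.extendByZero (head i) (fun x => ((lam i x : ℂˣ) : ℂ)) ((⟨a, v⟩ : K)⁻¹ * g * ⟨a, v⟩) =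
        ∑ t ∈ (tvOf i).toFinset, if inHead i (mh (ih t) a) then G' t else 0 := by
    intro a v
    obtain ⟨t, ht⟩ := List.length_eq_one_iff.1 (tv_spec i a)
    have hmem : ∀ t', (t' ∈ tvOf i ∧ inHead i (mh (ih t') a) = true) ↔ t' = t := by
      intro t'
      rw [← List.mem_singleton (a := t'), ← ht, List.mem_filter]
    rw [← Finset.sum_filter, show ((tvOf i).toFinset.filter fun t' => inHead i (mh (ih t') a) = true) = {t} by
      ext t'; simpa using hmem t', Finset.sum_singleton]
    have hh := ((hmem t).2 rfl).2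
    have hdec : (⟨a, v⟩ : K) = ⟨t, 0⟩ * ⟨mh (ih t) a, v⟩ := by
      rw [mul_def]
      ext
      · simp only
        rw [← mh_assoc]
        have : ∀ s : Fin 24, mh s (ih s) = 0 := by decide +kernel
        rw [this, (mh_one a).1]
      · simp only [(act_one 0).2, (av_zero v).1]
    rw [hdec, extend_coset i g (mem_head.2 hh), extend_term, hG]
  have htotal : ∑ x : K, Cfsg.extendByZero (head i) (fun x => ((lam i x : ℂˣ) : ℂ)) (x⁻¹ * g * x) =
      ((27 * S : ℕ) : ℂ) * ∑ t ∈ (tvOf i).toFinset, G' t := by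
    rw [← Equiv.sum_comp K.equivProd.symm, Fintype.sum_prod_type]
    simp only [K.equivProd, Equiv.coe_fn_symm_mk, hsum, Finset.sum_const, Finset.card_univ,
      Fintype.card_fin, nsmul_eq_mul, ← Finset.mul_sum]
    rw [Finset.sum_comm, Nat.cast_mul, mul_assoc, Finset.mul_sum (a := (S : ℂ))]
    refine congrArg _ (Finset.sum_congr rfl fun t ht => ?_)
    rw [← Finset.sum_filter, Finset.sum_const, tv_count i t (List.mem_toFinset.1 ht), nsmul_eq_mul]
  rw [theta, CfsgLib.Char.indFun_def, htotal, card_head, ← hS,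
    inv_mul_cancel_left₀ (by exact_mod_cast (Nat.mul_pos (by norm_num : 0 < 27) hSpos).ne')]
  rw [thetaVal, Z12.toC_sumL, List.sum_toFinset _ hnd, List.map_map]
  rfl

/-- The coefficients of the nine generalized characters. -/
def basisAt (b : Fin 9) (i : Fin 14) : ℤ := (basisTab.getD b []).getD i 0

/-- The exceptional generalized characters. -/
noncomputable def alpha (b : Fin 9) : K → ℂ :=
  ∑ i : Fin 14, basisAt b i • theta i.castSucc

theorem isGeneralized_alpha (b : Fin 9) : Cfsg.IsGeneralizedCharacter K (alpha b) :=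
  CfsgLib.Char.isGeneralized_sum _ fun i _ =>
    CfsgLib.Char.IsGeneralized.zsmul (CfsgLib.Char.IsCharacter.isGeneralized (isCharacter_theta _)) _

/-- Their values on the classes. -/
def alphaVal (b : Fin 9) (c : Fin 14) : Z12 :=
  Z12.sumL ((List.finRange 14).map fun i => Z12.smul (basisAt b i) (thetaVal i.castSucc (rep c)))

theorem alpha_eq (b : Fin 9) (x : K) : alpha b x = Z12.toC (alphaVal b (cls x)) := by
  have hcf := CfsgLib.Char.IsGeneralized.isClassFunction (isGeneralized_alpha b)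
  rw [CfsgLib.Char.IsClassFunction.apply_eq_of_isConj hcf (isConj_rep x), alpha, Finset.sum_apply,
    alphaVal, ← Z12.sum_toC]
  refine Finset.sum_congr rfl fun i _ => ?_
  rw [Pi.smul_apply, theta_eq, Z12.toC_smul, zsmul_eq_mul]

theorem theta_last_val : ∀ c : Fin 14, thetaVal 14 (rep c) =
    Z12.ofInt (if c.1 ∈ [0, 3, 4, 5] then 24 else 0) := by decide +kernel

theorem theta_last (x : K) : theta 14 x = if (cls x).1 ∈ [0, 3, 4, 5] then 24 else 0 := by
  have hcf := CfsgLib.Char.IsGeneralized.isClassFunction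
    (CfsgLib.Char.IsCharacter.isGeneralized (isCharacter_theta 14))
  rw [CfsgLib.Char.IsClassFunction.apply_eq_of_isConj hcf (isConj_rep x), theta_eq,
    theta_last_val, Z12.toC_ofInt]
  split_ifs <;> norm_num

theorem alphaVal_outside : ∀ b, ∀ c, inD c = false → alphaVal b c = Z12.ofInt 0 := by
  decide +kernel

theorem alpha_outside {b : Fin 9} {x : K} (h : inD (cls x) = false) : alpha b x = 0 := by
  rw [alpha_eq, alphaVal_outside b _ h, Z12.toC_ofInt, Int.cast_zero]

/-- Sums over the model of class-determined summands. -/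
theorem sum_eq_sum_cls (f : Fin 14 → ℂ) : ∑ x : K, f (cls x) = ∑ c, (size c : ℂ) * f c := by
  rw [← Finset.sum_fiberwise Finset.univ cls fun x => f (cls x)]
  refine Finset.sum_congr rfl fun c _ => ?_
  rw [Finset.sum_congr rfl (g := fun _ => f c) (fun x hx => by rw [(Finset.mem_filter.1 hx).2]),
    Finset.sum_const, card_filter_cls, nsmul_eq_mul]

end CfsgLib.AltNine
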